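import Cfsg.Agent.Lib.Solv.ConstFour.Quotient
import Cfsg.Agent.Lib.Solv.Cores
import Cfsg.Agent.Lib.Solv.UniqueSub
import Cfsg.Agent.Lib.Perm.LivingstoneWagner.Main
import Cfsg.Agent.S0253
import Cfsg.Agent.S0494
import Cfsg.Agent.S3378

/-!
The group is `PSL₂(5)` or `SL₂(5)` over an abelian core of odd order.
-/

open Cfsg Cfsg.Agent.Char

set_option autoImplicit false
set_option linter.style.haveILetI false

namespace Cfsg.Agent.Solv.ConstFour

universe u
variable {G : Type u} [Group G]

/-- A fixed-point-free involutory conjugation inverts and forces commutativity. -/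
theorem inverts_of_fpf [Finite G] {D : Subgroup G} {g : G}
    (hD : ∀ x ∈ D, g * x * g⁻¹ ∈ D) (h2 : ∀ x ∈ D, g * g * x = x * (g * g))
    (hfix : ∀ x ∈ D, g * x = x * g → x = 1) :
    ∀ x ∈ D, g * x * g⁻¹ = x⁻¹ ∧ ∀ y ∈ D, x * y = y * x := by
  let φ : D →* D :=
    { toFun := fun x => ⟨g * x * g⁻¹, hD x x.2⟩
      map_one' := Subtype.ext (by simp)
      map_mul' := fun a b => Subtype.ext (by simp [mul_assoc]) }
  have hf : MonoidHom.FixedPointFree φ := fun x hx => Subtype.ext (hfix x x.2 (by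
    have h : g * (x : G) * g⁻¹ = x := congrArg Subtype.val hx
    calc g * (x : G) = g * (x : G) * g⁻¹ * g := by group
      _ = x * g := by rw [h]))
  have hinv : Function.Involutive φ := fun x => Subtype.ext (by
    show g * (g * (x : G) * g⁻¹) * g⁻¹ = x
    calc g * (g * (x : G) * g⁻¹) * g⁻¹ = g * g * (x : G) * (g * g)⁻¹ := by group
      _ = x := by rw [h2 x x.2, mul_inv_cancel_right])
  intro x hx
  refine ⟨congrArg Subtype.val (congrFun (hf.coe_eq_inv_of_involutive hinv) ⟨x, hx⟩),
    fun y hy => congrArg Subtype.val (hf.commute_all_of_involutive hinv ⟨x, hx⟩ ⟨y, hy⟩).eq⟩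

theorem eq_one_of_odd_of_four [Finite G] {O : Subgroup G} (hO : Odd (Nat.card O)) {x : G}
    (hx : x ∈ O) (h4 : orderOf x ∣ 4) : x = 1 := by
  have h1 : orderOf x ∣ Nat.card O := Subgroup.orderOf_dvd_natCard O hx
  have hc : (Nat.card O).Coprime (2 ^ 2) :=
    ((Nat.coprime_two_right.2 hO)).pow_right 2
  exact orderOf_eq_one_iff.1 (Nat.dvd_one.1 (hc ▸ Nat.dvd_gcd h1 h4))

theorem eq_sq_of_mem_zpowers {g z : G} (hg : orderOf g = 4) (hz : z ∈ Subgroup.zpowers g)
    (h2 : z * z = 1) (h1 : z ≠ 1) : z = g * g := by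
  classical
  have hfin : IsOfFinOrder g := orderOf_pos_iff.1 (by omega)
  rw [hfin.mem_zpowers_iff_mem_range_orderOf, hg] at hz
  obtain ⟨k, hk, rfl⟩ := Finset.mem_image.1 hz
  rw [Finset.mem_range] at hk
  rw [← pow_add] at h2
  have h4 := orderOf_dvd_of_pow_eq_one h2
  rw [hg] at h4
  interval_cases k
  · simp at h1
  · norm_num at h4
  · exact pow_two g
  · norm_num at h4

/-- The centralizer of a conjugate of a self-centralizing element. -/
theorem mem_zpowers_of_commute {u g x : G}
    (hC : ∀ y, y * u = u * y → y ∈ Subgroup.zpowers u) (hg : IsConj g u) (hx : x * g = g * x) :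
    x ∈ Subgroup.zpowers g := by
  obtain ⟨c, hc⟩ := isConj_iff.1 hg
  have h : (c * x * c⁻¹) * u = u * (c * x * c⁻¹) := by
    rw [← hc]
    calc c * x * c⁻¹ * (c * g * c⁻¹) = c * (x * g) * c⁻¹ := by group
      _ = c * (g * x) * c⁻¹ := by rw [hx]
      _ = _ := by group
  obtain ⟨k, hk⟩ := Subgroup.mem_zpowers_iff.1 (hC _ h)
  refine Subgroup.mem_zpowers_iff.2 ⟨k, ?_⟩
  rw [← hc, conj_zpow] at hk
  exact mul_left_cancel (mul_right_cancel hk)

variable [Fintype G] {u : G}

theorem Hyp.final (H : Hyp u) :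
    IsMulCommutative ↥(Cfsg.oddCore G) ∧
      ((Nonempty (G ⧸ Cfsg.oddCore G ≃* Matrix.ProjectiveSpecialLinearGroup (Fin 2) (ZMod 5)) ∧
          orderOf u = 2) ∨
        (Nonempty (G ⧸ Cfsg.oddCore G ≃* Matrix.SpecialLinearGroup (Fin 2) (ZMod 5)) ∧
          orderOf u = 4)) := by
  classical
  haveI : Fact (Nat.Prime 2) := ⟨Nat.prime_two⟩
  haveI : Fact (Nat.Prime 5) := ⟨by norm_num⟩
  obtain ⟨M, hMn, huM, hn, h60, hsimp, hu2, hlift, hD, w, hw, hw1, hwu⟩ := H.exists_kernel
  haveI := hsimp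
  haveI := Fintype.ofFinite (G ⧸ M)
  haveI : (Cfsg.oddCore G).Normal := Solv.pPrimeCore_normal 2
  let π := QuotientGroup.mk' M
  have hπ : ∀ g : G, π g = (g : G ⧸ M) := fun _ => rfl
  have hπM : ∀ g : G, π g = 1 ↔ g ∈ M := fun g => QuotientGroup.eq_one_iff g
  have hu1 : π u ≠ 1 := fun h => huM ((hπM u).1 h)
  have hzM : u * u ∈ M := (hπM _).1 (by rw [map_mul]; exact hu2)
  have hC4 : ∀ x, x * u = u * x → x ^ 4 = 1 := fun x hx => by
    have h := pow_card_eq_one' (G := Subgroup.centralizer ({u} : Set G))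
      (x := ⟨x, Subgroup.mem_centralizer_singleton_iff.2 hx⟩)
    rw [hn] at h
    exact congrArg Subtype.val h
  obtain ⟨v, rfl⟩ := QuotientGroup.mk_surjective w
  have hiu : (u : G ⧸ M)⁻¹ = u := inv_eq_of_mul_eq_one_right hu2
  have hcv : IsConj v u := hlift v (hD _ hw hw1 hwu)
  have hcuv : IsConj (u * v) u := by
    refine hlift _ (hD _ ?_ ?_ ?_) <;> rw [QuotientGroup.mk_mul]
    · rw [mul_assoc, hw]
    · intro h
      exact hwu (by rw [eq_inv_of_mul_eq_one_right h, hiu])
    · intro h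
      exact hw1 (mul_left_cancel (h.trans (mul_one _).symm))
  have hconjM : ∀ g : G, IsConj (g : G ⧸ M) (u : G ⧸ M) → ∀ m ∈ M, IsConj (g * m) u :=
    fun g hg m hm => hlift _ (by rwa [QuotientGroup.mk_mul, (QuotientGroup.eq_one_iff m).2 hm, mul_one])
  have hvπ : IsConj (v : G ⧸ M) (u : G ⧸ M) := hD _ hw hw1 hwu
  have huvπ : IsConj ((u * v : G) : G ⧸ M) (u : G ⧸ M) := by
    obtain ⟨c, hc⟩ := isConj_iff.1 hcuv
    exact isConj_iff.2 ⟨(c : G ⧸ M), by
      rw [← QuotientGroup.mk_inv, ← QuotientGroup.mk_mul, ← QuotientGroup.mk_mul, hc]⟩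
  -- cores of odd order
  have hoddM : Cfsg.oddCore G ≤ M := by
    have hodd : (Nat.card (Cfsg.oddCore G)).Coprime 2 := Solv.pPrimeCore_coprime 2
    rcases (inferInstance : ((Cfsg.oddCore G).map π).Normal).eq_bot_or_eq_top with h | h
    · intro x hx
      exact (hπM x).1 (Subgroup.mem_bot.1 (h ▸ Subgroup.mem_map_of_mem π hx))
    · exfalso
      have h1 := Subgroup.card_map_dvd (Cfsg.oddCore G) π
      rw [h, Subgroup.card_top, h60] at h1
      exact absurd (Nat.dvd_gcd (dvd_trans (by norm_num : 2 ∣ 60) h1) (dvd_refl 2))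
        (by rw [hodd]; norm_num)
  by_cases hz : u * u = 1
  · -- the involution case
    have ho : orderOf u = 2 := orderOf_eq_prime (by rw [pow_two, hz]) H.ne_one
    have hinvol : ∀ g, IsConj g u → g * g = 1 := fun g hg => by
      obtain ⟨c, hc⟩ := isConj_iff.1 hg.symm
      rw [← hc, show c * u * c⁻¹ * (c * u * c⁻¹) = c * (u * u) * c⁻¹ by group, hz, mul_one,
        mul_inv_cancel]
    have hcen : ∀ m ∈ M, m * u = u * m := by
      intro m hm
      have h1 : ∀ g : G, IsConj (g : G ⧸ M) (u : G ⧸ M) → g * g = 1 → g * m * g = m⁻¹ :=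
        fun g hg hg2 => by
          have h := hinvol _ (hconjM g hg m hm)
          exact eq_inv_of_mul_eq_one_left (by rw [← h]; group)
      have a := h1 u (IsConj.refl _) hz
      have b := h1 v hvπ (hinvol v hcv)
      have c := h1 (u * v) huvπ (hinvol _ hcuv)
      have hcomm : v * u = u * v := by
        calc v * u = (u * u) * (v * u) * (v * v) := by rw [hz, hinvol v hcv, one_mul, mul_one]
          _ = u * (u * v * (u * v)) * v := by group
          _ = u * v := by rw [hinvol _ hcuv, mul_one]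
      have d : u * v * m * (u * v) = m := by
        calc u * v * m * (u * v) = u * v * m * (v * u) := by rw [hcomm]
          _ = u * (v * m * v) * u := by group
          _ = u * m⁻¹ * u := by rw [b]
          _ = (u * u) * (u * m * u)⁻¹ * (u * u) := by group
          _ = m := by rw [hz, a, inv_inv, one_mul, mul_one]
      have hm2 : m⁻¹ = m := c.symm.trans d
      calc m * u = (u * u) * m * u := by rw [hz, one_mul]
        _ = u * (u * m * u) := by group
        _ = u * m := by rw [a, hm2]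
    set C := Subgroup.centralizer ({u} : Set G)
    let ρ : C →* G ⧸ M := π.comp C.subtype
    have h1 := Subgroup.card_mul_index ρ.ker
    rw [Subgroup.index_ker, hn] at h1
    have hk : Nat.card ρ.ker = Nat.card M := Nat.card_congr
      { toFun := fun x => ⟨((x : C) : G), (hπM _).1 (MonoidHom.mem_ker.1 x.2)⟩
        invFun := fun m => ⟨⟨m, Subgroup.mem_centralizer_singleton_iff.2 (hcen m m.2)⟩,
          MonoidHom.mem_ker.2 ((hπM _).2 m.2)⟩
        left_inv := fun x => rfl
        right_inv := fun x => rfl }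
    have h3 : 3 ≤ Nat.card ρ.range := by
      have hs : ({1, π u, π v} : Set (G ⧸ M)) ⊆ ρ.range := by
        rintro x (rfl | rfl | rfl)
        · exact one_mem _
        · exact ⟨⟨u, Subgroup.mem_centralizer_singleton_iff.2 rfl⟩, rfl⟩
        · refine ⟨⟨v, Subgroup.mem_centralizer_singleton_iff.2 ?_⟩, rfl⟩
          calc v * u = (u * u) * (v * u) * (v * v) := by rw [hz, hinvol v hcv, one_mul, mul_one]
            _ = u * (u * v * (u * v)) * v := by group
            _ = u * v := by rw [hinvol _ hcuv, mul_one]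
      refine le_trans ?_ ((Set.ncard_le_ncard hs (Set.toFinite _)).trans_eq
        (Nat.card_coe_set_eq _).symm)
      rw [Set.ncard_eq_three.2 ⟨1, π u, π v, fun h => hu1 h.symm, fun h => hw1 h.symm,
        fun h => hwu h.symm, rfl⟩]
    rw [hk] at h1
    have hM1 : Nat.card M = 1 := by
      have := Nat.card_pos (α := M)
      by_contra hne
      have h2 : 2 * 3 ≤ Nat.card M * Nat.card ρ.range := Nat.mul_le_mul (by omega) h3
      omega
    have hMbot : M = ⊥ := Subgroup.card_eq_one.1 hM1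
    have hOM : Cfsg.oddCore G = M := le_antisymm hoddM (hMbot ▸ bot_le)
    obtain ⟨e1⟩ := Cfsg.Agent.S0494.result (G := G ⧸ M) h60
    obtain ⟨e2⟩ := Cfsg.Agent.S0253.result (F := ZMod 5) (ZMod.card 5)
    refine ⟨?_, Or.inl ⟨⟨((QuotientGroup.quotientMulEquivOfEq hOM).trans e1).trans e2.symm⟩, ho⟩⟩
    refine ⟨⟨fun a b => Subtype.ext ?_⟩⟩
    have ha : (a : G) = 1 := Subgroup.mem_bot.1 (hMbot ▸ hoddM a.2)
    show (a : G) * b = b * a
    rw [ha, one_mul, mul_one]
  -- the case of an element of order four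
  set z := u * u with hzdef
  have h4u := hC4 u rfl
  have hz2 : z * z = 1 := by rw [hzdef, ← h4u]; simp only [pow_succ, pow_zero, one_mul, mul_assoc]
  have ho : orderOf u = 4 := by
    have := orderOf_eq_prime_pow (p := 2) (n := 1) (x := u) (by rw [pow_one, pow_two]; exact hz)
      (by rw [show (2 : ℕ) ^ (1 + 1) = 4 by norm_num, h4u])
    rw [this]; norm_num
  have hCu : ∀ y, y * u = u * y → y ∈ Subgroup.zpowers u := by
    have hle : Subgroup.zpowers u = Subgroup.centralizer ({u} : Set G) := by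
      refine Subgroup.eq_of_le_of_card_ge (Subgroup.zpowers_le.2
        (Subgroup.mem_centralizer_singleton_iff.2 rfl)) ?_
      rw [hn, Nat.card_zpowers, ho]
    intro y hy
    rw [hle]
    exact Subgroup.mem_centralizer_singleton_iff.2 hy
  have hord : ∀ g, IsConj g u → orderOf g = 4 := fun g hg => by
    obtain ⟨c, hc⟩ := hg
    rw [(hc.orderOf_eq), ho]
  obtain ⟨S, hS⟩ := (IsPGroup.of_card (p := 2) (n := 2)
    (show Nat.card (Subgroup.zpowers u) = 2 ^ 2 by rw [Nat.card_zpowers, ho]; norm_num)).exists_le_sylow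
  have huS : u ∈ (S : Subgroup G) := hS (Subgroup.mem_zpowers u)
  let R : Sylow 2 (G ⧸ M) := S.mapSurjective (QuotientGroup.mk'_surjective M)
  have hRc : (R : Subgroup (G ⧸ M)) = (S : Subgroup G).map π := S.coe_mapSurjective _
  have hR4 : Nat.card (R : Subgroup (G ⧸ M)) = 4 := by
    obtain ⟨k, hk⟩ := IsPGroup.iff_card.1 R.2
    have h := Subgroup.card_mul_index (R : Subgroup (G ⧸ M))
    have hodd := R.not_dvd_index
    rw [hk, h60] at h
    have hk5 : k ≤ 5 := by
      by_contra hh
      have h6 : 2 ^ 6 ≤ 2 ^ k := Nat.pow_le_pow_right two_pos (by omega)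
      have h7 : 2 ^ k ∣ 60 := Dvd.intro _ h
      have := Nat.le_of_dvd (by norm_num) h7
      omega
    rw [hk]
    interval_cases k <;> omega
  have hRC : (R : Subgroup (G ⧸ M)) = Subgroup.centralizer ({(u : G ⧸ M)} : Set (G ⧸ M)) := by
    have huR : (u : G ⧸ M) ∈ (R : Subgroup (G ⧸ M)) := hRc ▸ Subgroup.mem_map_of_mem π huS
    have hab := IsPGroup.commutative_of_card_eq_prime_sq (p := 2)
      (G := (R : Subgroup (G ⧸ M))) (by rw [hR4]; norm_num)
    refine Subgroup.eq_of_le_of_card_ge (fun x hx => Subgroup.mem_centralizer_singleton_iff.2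
      (congrArg Subtype.val (hab ⟨x, hx⟩ ⟨_, huR⟩))) ?_
    obtain ⟨χ, hχ⟩ := Finset.card_pos.1 (lt_of_lt_of_le two_pos (H.quot M huM).two_le_card3)
    rw [hR4, (H.quot M huM).card_centralizer_faithful hχ]
    intro q hq
    haveI := hsimp
    obtain ⟨K, hK, hKm⟩ := exists_charKernel (irr_isCharacter χ.2)
    rcases hK.eq_bot_or_eq_top with h | h
    · exact Subgroup.mem_bot.1 (h ▸ (hKm q).2 hq)
    · have := (hKm (u : G ⧸ M)).1 (h ▸ Subgroup.mem_top _)
      rw [(H.quot M huM).apply3 hχ, one3 hχ] at this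
      norm_num at this
  obtain ⟨v', hv'S, hv'⟩ : ∃ x ∈ (S : Subgroup G), π x = (v : G ⧸ M) := by
    have : (v : G ⧸ M) ∈ (R : Subgroup (G ⧸ M)) := by
      rw [hRC]; exact Subgroup.mem_centralizer_singleton_iff.2 hw
    rwa [hRc, Subgroup.mem_map] at this
  have hv'π : IsConj (v' : G ⧸ M) (u : G ⧸ M) := by rw [← hπ v', hv']; exact hvπ
  have huv'π : IsConj ((u * v' : G) : G ⧸ M) (u : G ⧸ M) := by
    rw [QuotientGroup.mk_mul, ← hπ v', hv', ← QuotientGroup.mk_mul]; exact huvπ
  have hv'1 : π v' ≠ 1 := hv' ▸ hw1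
  have hv'u : π v' ≠ π u := hv' ▸ hwu
  have hnc : v' * u ≠ u * v' := fun h => by
    rcases (IsOfFinOrder.mem_zpowers_iff_mem_range_orderOf (isOfFinOrder_of_finite u)).1 (hCu v' h)
      |> Finset.mem_image.1 with ⟨k, hk, hk'⟩
    rw [ho, Finset.mem_range] at hk
    have hk2 : π v' = π u ^ k := by rw [← map_pow, hk']
    have hpu : π u ^ 2 = 1 := by rw [pow_two]; exact hu2
    interval_cases k
    · exact hv'1 (by rw [hk2, pow_zero])
    · exact hv'u (by rw [hk2, pow_one])
    · exact hv'1 (by rw [hk2, hpu])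
    · exact hv'u (by rw [hk2, pow_succ, hpu, one_mul])
  -- the centre of the Sylow subgroup
  haveI : Nontrivial (S : Subgroup G) :=
    ⟨⟨⟨u, huS⟩, 1, fun h => H.ne_one (congrArg Subtype.val h)⟩⟩
  haveI := S.2.center_nontrivial
  obtain ⟨⟨c, hc⟩, hc1⟩ := exists_ne (1 : Subgroup.center (S : Subgroup G))
  have hcS : ∀ g ∈ (S : Subgroup G), g * (c : G) = (c : G) * g := fun g hg =>
    congrArg Subtype.val (Subgroup.mem_center_iff.1 hc ⟨g, hg⟩)
  have hcz : (c : G) = z := by
    rcases (IsOfFinOrder.mem_zpowers_iff_mem_range_orderOf (isOfFinOrder_of_finite u)).1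
      (hCu c (hcS u huS).symm) |> Finset.mem_image.1 with ⟨k, hk, hk'⟩
    rw [ho, Finset.mem_range] at hk
    have hvc := hcS v' hv'S
    rw [← hk'] at hvc
    interval_cases k
    · exact absurd (Subtype.ext (Subtype.ext (by simpa using hk'.symm))) hc1
    · rw [pow_one] at hvc; exact absurd hvc hnc
    · rw [← hk', hzdef, pow_two]
    · exfalso
      have h3 : u ^ 3 = u⁻¹ := eq_inv_of_mul_eq_one_left (by rw [← pow_succ]; exact h4u)
      rw [h3] at hvc
      exact hnc (by
        calc v' * u = u * (u⁻¹ * v') * u := by group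
          _ = u * (v' * u⁻¹) * u := by rw [hvc]
          _ = u * v' := by group)
  have hzS : ∀ g ∈ (S : Subgroup G), g * z = z * g := hcz ▸ hcS
  have hsqz : ∀ g ∈ (S : Subgroup G), IsConj g u → g * g = z := fun g hgS hg =>
    (eq_sq_of_mem_zpowers (hord g hg) (mem_zpowers_of_commute hCu hg (hzS g hgS).symm) hz2 hz).symm
  have hv'c := hlift v' hv'π
  have huv'c := hlift _ huv'π
  have huv'S : u * v' ∈ (S : Subgroup G) := mul_mem huS hv'S
  have hT : ∀ m ∈ (S : Subgroup G), m ∈ M → m = 1 ∨ m = z := by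
    intro m hmS hmM
    have h1 : ∀ g ∈ (S : Subgroup G), IsConj (g : G ⧸ M) (u : G ⧸ M) → m * g * m = g :=
      fun g hgS hg => by
        have a := hsqz _ (mul_mem hgS hmS) (hconjM g hg m hmM)
        have b := hsqz g hgS (hlift g hg)
        rw [← b] at a
        calc m * g * m = g⁻¹ * (g * m * (g * m)) := by group
          _ = g := by rw [a, inv_mul_cancel_left]
    have a := h1 u huS (IsConj.refl _)
    have b := h1 v' hv'S hv'π
    have d := h1 (u * v') huv'S huv'π
    have a' : m * u = u * m⁻¹ := eq_mul_inv_of_mul_eq a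
    have b' : m⁻¹ * v' = v' * m := inv_mul_eq_of_eq_mul (by rw [← mul_assoc, b])
    have h2 : m * m = 1 := by
      have : u * v' * (m * m) = u * v' := by
        calc u * v' * (m * m) = u * (v' * m) * m := by group
          _ = (m * u) * v' * m := by rw [← b', a']; group
          _ = u * v' := by rw [← d]; group
      exact mul_left_cancel (this.trans (mul_one _).symm)
    have hmi : m⁻¹ = m := inv_eq_of_mul_eq_one_right h2
    rw [hmi] at a'
    rcases (IsOfFinOrder.mem_zpowers_iff_mem_range_orderOf (isOfFinOrder_of_finite u)).1 (hCu m a')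
      |> Finset.mem_image.1 with ⟨k, hk, hk'⟩
    rw [ho, Finset.mem_range] at hk
    have hk2 : π u ^ k = 1 := by rw [← map_pow, hk']; exact (hπM m).2 hmM
    interval_cases k
    · exact Or.inl (by simpa using hk'.symm)
    · exact absurd (by simpa using hk2) hu1
    · exact Or.inr (by rw [← hk', hzdef, pow_two])
    · exact absurd (show π u = 1 by
        rw [pow_succ, pow_two, show π u * π u = 1 from hu2, one_mul] at hk2; exact hk2) hu1
  -- orders
  let ρ : (S : Subgroup G) →* G ⧸ M := π.comp (S : Subgroup G).subtype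
  have hS8 : Nat.card (S : Subgroup G) = 8 := by
    have h1 := Subgroup.card_mul_index ρ.ker
    have hr : ρ.range = (R : Subgroup (G ⧸ M)) := by
      rw [MonoidHom.range_comp, Subgroup.range_subtype, hRc]
    rw [Subgroup.index_ker, hr, hR4] at h1
    have hzk : (⟨z, mul_mem huS huS⟩ : (S : Subgroup G)) ∈ ρ.ker :=
      MonoidHom.mem_ker.2 ((hπM z).2 hzM)
    have h2 : Nat.card ρ.ker = 2 := by
      refine Nat.card_eq_two_iff.2 ⟨1, ⟨_, hzk⟩,
        fun h => hz (congrArg (fun x : ρ.ker => ((x : (S : Subgroup G)) : G)) h).symm, ?_⟩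
      refine Set.eq_univ_iff_forall.2 fun x => ?_
      rcases hT _ (x : (S : Subgroup G)).2 ((hπM _).1 (MonoidHom.mem_ker.1 x.2)) with h | h
      · exact Or.inl (Subtype.ext (Subtype.ext h))
      · exact Or.inr (Subtype.ext (Subtype.ext h))
    omega
  have hGM : 60 * Nat.card M = Nat.card G := by
    rw [Subgroup.card_eq_card_quotient_mul_card_subgroup M, h60]
  obtain ⟨k, hk, hkodd⟩ : ∃ k, Nat.card M = 2 * k ∧ Odd k := by
    have h1 := Subgroup.card_mul_index (S : Subgroup G)
    have h2 := S.not_dvd_index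
    rw [hS8, ← hGM] at h1
    refine ⟨Nat.card M / 2, ?_, Nat.odd_iff.2 ?_⟩ <;> omega
  obtain ⟨K, hK⟩ := Cfsg.Agent.Perm.LW.exists_index_two hkodd hk
  have hKi : K.index = 2 := by
    have h := Subgroup.card_mul_index K
    rw [hK, hk, mul_comm 2] at h
    exact Nat.eq_of_mul_eq_mul_left hkodd.pos h
  have hKmem : ∀ m : M, m ∈ K ↔ Odd (orderOf m) := fun m => by
    constructor
    · intro hm
      exact Odd.of_dvd_nat hkodd (hK ▸ Subgroup.orderOf_dvd_natCard K hm)
    · rintro ⟨j, hj⟩
      have hp : (m * m) ^ (j + 1) = m := by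
        rw [← pow_two, ← pow_mul, show 2 * (j + 1) = orderOf m + 1 by omega, pow_succ,
          pow_orderOf_eq_one, one_mul]
      rw [← hp]
      exact pow_mem (Subgroup.mul_self_mem_of_index_two hKi m) _
  set O := K.map M.subtype with hOdef
  have hOmem : ∀ x : G, x ∈ O ↔ x ∈ M ∧ Odd (orderOf x) := fun x => by
    constructor
    · rintro ⟨m, hm, rfl⟩
      exact ⟨m.2, by rw [Subgroup.coe_subtype, Subgroup.orderOf_coe]; exact (hKmem m).1 hm⟩
    · rintro ⟨hx, ho'⟩
      refine ⟨⟨x, hx⟩, (hKmem _).2 ?_, rfl⟩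
      rwa [← Subgroup.orderOf_coe]
  haveI hOn : O.Normal := ⟨fun x hx g => by
    obtain ⟨h1, h2⟩ := (hOmem x).1 hx
    exact (hOmem _).2 ⟨hMn.conj_mem x h1 g, by rwa [← MulAut.conj_apply, MulEquiv.orderOf_eq]⟩⟩
  have hOcard : Nat.card O = k := by
    rw [hOdef, Subgroup.card_map_of_injective M.subtype_injective, hK]
  have hcore : Cfsg.oddCore G = O := by
    refine le_antisymm (fun x hx => (hOmem x).2 ⟨hoddM hx, Odd.of_dvd_nat
      (Nat.coprime_two_right.1 (Solv.pPrimeCore_coprime 2))
      (Subgroup.orderOf_dvd_natCard _ hx)⟩) (Solv.normal_le_pPrimeCore ?_)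
    rw [hOcard]; exact Nat.coprime_two_right.2 hkodd
  have hOodd : Odd (Nat.card O) := hOcard.symm ▸ hkodd
  -- the core is abelian
  have hfix : ∀ g, IsConj g u → ∀ x ∈ O, g * x = x * g → x = 1 := fun g hg x hx hgx =>
    eq_one_of_odd_of_four hOodd hx (hord g hg ▸ by
      obtain ⟨j, rfl⟩ := Subgroup.mem_zpowers_iff.1 (mem_zpowers_of_commute hCu hg hgx.symm)
      exact orderOf_dvd_of_pow_eq_one (by
        rw [← zpow_natCast, ← zpow_mul, mul_comm, zpow_mul, zpow_natCast, pow_orderOf_eq_one,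
          one_zpow]))
  let D := O ⊓ Subgroup.centralizer ({z} : Set G)
  have hDfix : ∀ x ∈ D, x = 1 := by
    have hg : ∀ g, IsConj g u → g * g = z → ∀ x ∈ D, g * x * g⁻¹ = x⁻¹ := fun g hgu hgz x hx =>
      (inverts_of_fpf (D := D) (g := g)
        (fun y hy => ⟨hOn.conj_mem y hy.1 g, Subgroup.mem_centralizer_singleton_iff.2 (by
          have hy2 := Subgroup.mem_centralizer_singleton_iff.1 hy.2
          have hgz' : z * g = g * z := by rw [← hgz, mul_assoc]
          symm
          calc z * (g * y * g⁻¹) = (z * g) * y * g⁻¹ := by group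
            _ = g * (z * y) * g⁻¹ := by rw [hgz']; group
            _ = g * (y * z) * g⁻¹ := by rw [hy2]
            _ = g * y * g⁻¹ * (g * z * g⁻¹) := by group
            _ = g * y * g⁻¹ * z := by rw [← hgz']; group)⟩)
        (fun y hy => by rw [hgz]; exact (Subgroup.mem_centralizer_singleton_iff.1 hy.2).symm)
        (fun y hy => hfix g hgu y hy.1) x hx).1
    intro x hx
    have a := hg u (IsConj.refl u) rfl x hx
    have b := hg v' hv'c (hsqz v' hv'S hv'c) x hx
    have d := hg _ huv'c (hsqz _ huv'S huv'c) x hx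
    have e : x⁻¹ = x := by
      rw [← d]
      calc u * v' * x * (u * v')⁻¹ = u * (v' * x * v'⁻¹) * u⁻¹ := by group
        _ = (u * x * u⁻¹)⁻¹ := by rw [b]; group
        _ = x := by rw [a, inv_inv]
    exact eq_one_of_odd_of_four hOodd hx.1
      ((orderOf_dvd_of_pow_eq_one (by rw [pow_two]; nth_rw 1 [← e]; exact inv_mul_cancel x)).trans
        (by norm_num : 2 ∣ 4))
  have hab : ∀ x ∈ O, ∀ y ∈ O, x * y = y * x := fun x hx y hy =>
    (inverts_of_fpf (D := O) (g := z) (fun a ha => hOn.conj_mem a ha z)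
      (fun a _ => by rw [hz2, one_mul, mul_one])
      (fun a ha h => hDfix a ⟨ha, Subgroup.mem_centralizer_singleton_iff.2 h.symm⟩) x hx).2 y hy
  refine ⟨?_, Or.inr ⟨?_, ho⟩⟩
  · rw [hcore]
    exact ⟨⟨fun a b => Subtype.ext (hab a a.2 b b.2)⟩⟩
  refine ⟨(QuotientGroup.quotientMulEquivOfEq hcore).trans (Classical.choice
    ((Cfsg.Agent.S3378.result.{u}).1 (G ⧸ O) ?_ ?_ ?_))⟩
  · have h := Subgroup.card_eq_card_quotient_mul_card_subgroup O
    rw [hOcard, ← hGM, hk, ← mul_assoc] at h
    exact (Nat.eq_of_mul_eq_mul_right hkodd.pos h).symm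
  · intro hsol
    haveI := hsol
    let f : G ⧸ O →* G ⧸ M := QuotientGroup.map O M (MonoidHom.id G)
      (fun x hx => ((hOmem x).1 hx).1)
    have hf : Function.Surjective f := fun q => by
      obtain ⟨g, rfl⟩ := QuotientGroup.mk_surjective q
      exact ⟨(g : G ⧸ O), rfl⟩
    haveI : Group.IsSolvable (G ⧸ M) := Group.isSolvable_of_surjective hf
    exact (Group.IsSolvable.commutator_lt_top_of_nontrivial (G ⧸ M)).ne (H.quot M huM).perfect
  · intro P
    let q := QuotientGroup.mk' O
    let S' : Sylow 2 (G ⧸ O) := S.mapSurjective (QuotientGroup.mk'_surjective O)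
    have hS'c : (S' : Subgroup (G ⧸ O)) = (S : Subgroup G).map q := S.coe_mapSurjective _
    have hdvd : ∀ x : (S : Subgroup G), orderOf x ∣ 8 := fun x => hS8 ▸ orderOf_dvd_natCard x
    have hinj : Function.Injective (q.subgroupMap (S : Subgroup G)) := by
      refine (injective_iff_map_eq_one _).2 fun x hx => Subtype.ext ?_
      have hxO : (x : G) ∈ O := (QuotientGroup.eq_one_iff _).1 (congrArg Subtype.val hx)
      have h1 : orderOf (x : G) ∣ 8 := by rw [Subgroup.orderOf_coe]; exact hdvd x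
      have hc : (Nat.card O).Coprime (2 ^ 3) := (Nat.coprime_two_right.2 hOodd).pow_right 3
      exact orderOf_eq_one_iff.1 (Nat.dvd_one.1
        (hc ▸ Nat.dvd_gcd (Subgroup.orderOf_dvd_natCard O hxO) (by simpa using h1)))
    have hu' : UniqueOrderP 2 (S : Subgroup G) := by
      have key : ∀ x : (S : Subgroup G), x ^ 2 = 1 → (x : G) = 1 ∨ (x : G) = z := fun x hx => by
        have hx' : (x : G) * (x : G) = 1 := by rw [← pow_two]; exact congrArg Subtype.val hx
        refine hT x x.2 ((hπM _).1 ?_)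
        by_contra hne
        have hxR : π (x : G) ∈ Subgroup.centralizer ({(u : G ⧸ M)} : Set (G ⧸ M)) := by
          rw [← hRC, hRc]; exact Subgroup.mem_map_of_mem π x.2
        have hconj : IsConj (x : G) u := hlift _ (by
          by_cases e : π (x : G) = π u
          · rw [← hπ, e]; exact IsConj.refl _
          · exact hD _ (Subgroup.mem_centralizer_singleton_iff.1 hxR) hne e)
        have := hord _ hconj
        have h2 := orderOf_dvd_of_pow_eq_one (show (x : G) ^ 2 = 1 by rw [pow_two, hx'])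
        rw [this] at h2
        norm_num at h2
      intro x y hx hy hy1
      rcases key x hx with h | h
      · rw [show x = 1 from Subtype.ext h]; exact one_mem _
      · rcases key y hy with h' | h'
        · exact absurd (Subtype.ext h') hy1
        · rw [show x = y from Subtype.ext (h.trans h'.symm)]; exact Subgroup.mem_zpowers y
    rcases Solv.cyclic_or_quaternion S.2 hu' with hcyc | ⟨-, n, ⟨e⟩⟩
    · exact absurd (congrArg Subtype.val ((IsCyclic.commGroup (α := (S : Subgroup G))).mul_comm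
        ⟨v', hv'S⟩ ⟨u, huS⟩)) hnc
    have hn1 : n = 1 := by
      have h := Nat.card_congr e.toEquiv
      rw [hS8, Nat.card_eq_fintype_card, QuaternionGroup.card] at h
      rcases (show n = 0 ∨ n = 1 ∨ 2 ≤ n by omega) with rfl | rfl | h'
      · norm_num at h
      · rfl
      · have : 2 ^ 2 ≤ 2 ^ n := Nat.pow_le_pow_right two_pos h'
        omega
    subst hn1
    let e1 : (S : Subgroup G) ≃* (S : Subgroup G).map q :=
      MulEquiv.ofBijective _ ⟨hinj, q.subgroupMap_surjective _⟩
    exact ⟨((Sylow.equiv P S').trans ((MulEquiv.subgroupCongr hS'c).trans e1.symm)).trans e⟩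

end Cfsg.Agent.Solv.ConstFour
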