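import Cfsg.Agent.Lib.Solv.ConstFour.Degree3
import Cfsg.Agent.Lib.Char.Central
import Cfsg.Agent.Lib.Char.Ortho

/-!
An element at which every non-principal irreducible character either vanishes or takes the value
degree minus four: basic structure of the live characters.
-/

open scoped ComplexConjugate
open Cfsg Cfsg.Agent.Char

set_option autoImplicit false
set_option linter.style.haveILetI false

namespace Cfsg.Agent.Solv.ConstFour

universe u
variable {G : Type u} [Group G] [Fintype G]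

/-- The principal character. -/
noncomputable def oneC : IrrCharacter G := ⟨fun _ => 1, isIrrCharacter_one⟩

@[simp] theorem oneC_apply (g : G) : ((oneC : IrrCharacter G) : G → ℂ) g = 1 := rfl

/-- The hypothesis. -/
structure Hyp (u : G) : Prop where
  ne_one : u ≠ 1
  perfect : commutator G = ⊤
  val : ∀ χ : IrrCharacter G, χ ≠ oneC →
    ((χ : G → ℂ) 1 - (χ : G → ℂ) u = 4 ∨ (χ : G → ℂ) u = 0)

/-- The degree, as an integer. -/
noncomputable def dg (χ : IrrCharacter G) : ℤ := (deg (χ : G → ℂ) : ℤ)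

theorem apply_one (χ : IrrCharacter G) : (χ : G → ℂ) 1 = (dg χ : ℂ) := by
  rw [dg, Int.cast_natCast, ← char_one_eq_deg (irr_isCharacter χ.2)]

theorem dg_pos (χ : IrrCharacter G) : 1 ≤ dg χ := by
  have := deg_pos χ.2
  unfold dg
  omega

theorem dg_one : dg (oneC : IrrCharacter G) = 1 := by
  have h := apply_one (oneC : IrrCharacter G)
  rw [oneC_apply] at h
  exact_mod_cast h.symm

open scoped Classical in
/-- The characters other than the principal one that do not vanish at `u`. -/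
noncomputable def live (u : G) : Finset (IrrCharacter G) :=
  Finset.univ.filter fun χ => χ ≠ oneC ∧ (χ : G → ℂ) u ≠ 0

theorem mem_live {u : G} {χ : IrrCharacter G} :
    χ ∈ live u ↔ χ ≠ oneC ∧ (χ : G → ℂ) u ≠ 0 := by
  classical
  simp [live]

namespace Hyp

variable {u : G} (H : Hyp u)
include H

theorem eq_oneC_of_dg {χ : IrrCharacter G} (h : dg χ = 1) : χ = oneC := by
  obtain ⟨l, hl⟩ := exists_hom_of_degree_one (irr_isCharacter χ.2)
    (by rw [apply_one, h, Int.cast_one])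
  have hle : commutator G ≤ l.ker := by
    rw [commutator_def, Subgroup.commutator_le]
    intro a _ b _
    rw [MonoidHom.mem_ker, map_commutatorElement]
    exact commutatorElement_eq_one_iff_mul_comm.2 (mul_comm _ _)
  rw [H.perfect, top_le_iff] at hle
  refine Subtype.ext (funext fun g => ?_)
  have hg : g ∈ l.ker := hle ▸ Subgroup.mem_top g
  rw [hl]
  show (l g : ℂ) = 1
  rw [MonoidHom.mem_ker.1 hg, Units.val_one]

theorem two_le {χ : IrrCharacter G} (h : χ ≠ oneC) : 2 ≤ dg χ := by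
  have := dg_pos χ
  by_contra hc
  exact h (H.eq_oneC_of_dg (by omega))

theorem apply_live {χ : IrrCharacter G} (h : χ ∈ live u) :
    (χ : G → ℂ) u = ((dg χ - 4 : ℤ) : ℂ) := by
  obtain ⟨h1, h2⟩ := mem_live.1 h
  rcases H.val χ h1 with h3 | h3
  · rw [apply_one] at h3
    push_cast
    linear_combination -h3
  · exact absurd h3 h2

theorem ne_four {χ : IrrCharacter G} (h : χ ∈ live u) : dg χ ≠ 4 := fun e => by
  have h1 := H.apply_live h
  rw [e, sub_self, Int.cast_zero] at h1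
  exact (mem_live.1 h).2 h1

omit H in
theorem apply_dead {χ : IrrCharacter G} (h1 : χ ≠ oneC) (h : χ ∉ live u) :
    (χ : G → ℂ) u = 0 := by
  by_contra h2
  exact h (mem_live.2 ⟨h1, h2⟩)

/-- Sums against the values at `u`. -/
theorem sum_val (f : IrrCharacter G → ℂ) :
    ∑ χ : IrrCharacter G, f χ * (χ : G → ℂ) u =
      f oneC + ∑ χ ∈ live u, f χ * ((dg χ - 4 : ℤ) : ℂ) := by
  classical
  rw [← Finset.add_sum_erase _ _ (Finset.mem_univ (oneC : IrrCharacter G)), oneC_apply, mul_one]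
  congr 1
  rw [Finset.sum_congr rfl (s₁ := live u) (g := fun χ => f χ * (χ : G → ℂ) u)
    (fun χ hχ => by rw [H.apply_live hχ])]
  symm
  refine Finset.sum_subset (fun χ hχ => Finset.mem_erase.2 ⟨(mem_live.1 hχ).1, Finset.mem_univ _⟩)
    fun χ hχ hχ' => ?_
  rw [apply_dead (Finset.ne_of_mem_erase hχ) hχ', mul_zero]

theorem E1 : 1 + ∑ χ ∈ live u, dg χ * (dg χ - 4) = 0 := by
  classical
  have h := regular_sum u
  rw [if_neg H.ne_one, H.sum_val, oneC_apply,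
    Finset.sum_congr rfl (g := fun χ => ((dg χ * (dg χ - 4) : ℤ) : ℂ))
      (fun χ _ => by rw [apply_one]; push_cast; ring), ← Int.cast_sum] at h
  have : ((1 + ∑ χ ∈ live u, dg χ * (dg χ - 4) : ℤ) : ℂ) = ((0 : ℤ) : ℂ) := by
    rw [Int.cast_add, Int.cast_one, Int.cast_zero]; exact h
  exact_mod_cast this

/-- The column of `u`. -/
theorem column (x : G) [Decidable (IsConj x u)] :
    1 + ∑ χ ∈ live u, ((dg χ - 4 : ℤ) : ℂ) * (χ : G → ℂ) x =
      if IsConj x u then (Nat.card (Subgroup.centralizer ({u} : Set G)) : ℂ) else 0 := by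
  classical
  have hv : ∀ χ : IrrCharacter G, conj ((χ : G → ℂ) u) = (χ : G → ℂ) u := fun χ => by
    by_cases h1 : χ = oneC
    · rw [h1, oneC_apply, map_one]
    by_cases h2 : χ ∈ live u
    · rw [H.apply_live h2, map_intCast]
    · rw [apply_dead h1 h2, map_zero]
  have h := second_orth x u
  rw [Finset.sum_congr rfl (fun χ _ => by rw [hv χ]),
    H.sum_val fun χ => (χ : G → ℂ) x, oneC_apply] at h
  rw [Finset.sum_congr rfl (g := fun χ : IrrCharacter G => (χ : G → ℂ) x * ((dg χ - 4 : ℤ) : ℂ))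
      (fun χ _ => mul_comm _ _), h]
  split_ifs with hx
  · rw [div_eq_iff (Nat.cast_ne_zero.2 (card_conjClass_ne_zero u)), ← Nat.cast_mul, mul_comm,
      card_conjClass_mul_centralizer]
  · rfl

theorem E2 : 1 + ∑ χ ∈ live u, (dg χ - 4) ^ 2 =
    (Nat.card (Subgroup.centralizer ({u} : Set G)) : ℤ) := by
  classical
  have h := H.column u
  rw [if_pos (IsConj.refl u), Finset.sum_congr rfl (g := fun χ => (((dg χ - 4) ^ 2 : ℤ) : ℂ))
    (fun χ hχ => by rw [H.apply_live hχ]; push_cast; ring), ← Int.cast_sum] at h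
  have : ((1 + ∑ χ ∈ live u, (dg χ - 4) ^ 2 : ℤ) : ℂ) =
      (((Nat.card (Subgroup.centralizer ({u} : Set G)) : ℤ)) : ℂ) := by
    rw [Int.cast_add, Int.cast_one, Int.cast_natCast]; exact h
  exact_mod_cast this

omit H in
theorem one_eq (m : IrrCharacter G → ℕ) {θ : G → ℂ}
    (hm : θ = ∑ ψ, m ψ • (ψ : G → ℂ)) (g : G) : θ g = ∑ ψ, (m ψ : ℂ) * (ψ : G → ℂ) g := by
  rw [hm, Finset.sum_apply]
  simp [nsmul_eq_mul]

open scoped Classical in
/-- Degree and value equations of a decomposition. -/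
theorem decomp_eqs {θ : G → ℂ} (m : IrrCharacter G → ℕ) (hm : θ = ∑ ψ, m ψ • (ψ : G → ℂ))
    {a b : ℤ} (h1 : θ 1 = (a : ℂ)) (hu : θ u = (b : ℂ)) :
    ((m oneC : ℤ) + ∑ ψ ∈ Finset.univ.erase oneC, (m ψ : ℤ) * dg ψ = a) ∧
    (m oneC : ℤ) + ∑ ψ ∈ live u, (m ψ : ℤ) * (dg ψ - 4) = b := by
  constructor
  · have h := one_eq m hm 1
    rw [h1, ← Finset.add_sum_erase _ _ (Finset.mem_univ (oneC : IrrCharacter G)), oneC_apply,
      mul_one, Finset.sum_congr rfl (g := fun ψ => (((m ψ : ℤ) * dg ψ : ℤ) : ℂ))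
        (fun ψ _ => by rw [apply_one]; push_cast; rfl), ← Int.cast_sum] at h
    exact_mod_cast h.symm
  · have h := one_eq m hm u
    rw [hu, H.sum_val, Finset.sum_congr rfl (g := fun ψ => (((m ψ : ℤ) * (dg ψ - 4) : ℤ) : ℂ))
        (fun ψ _ => by push_cast; rfl), ← Int.cast_sum] at h
    exact_mod_cast h.symm

theorem three_le {χ : IrrCharacter G} (hχ : χ ∈ live u) : 3 ≤ dg χ := by
  classical
  by_contra hc
  have h2 := H.two_le (mem_live.1 hχ).1
  have hd : dg χ = 2 := by omega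
  have hv : (χ : G → ℂ) u = -2 := by rw [H.apply_live hχ, hd]; norm_num
  set θ : G → ℂ := (χ : G → ℂ) * fun g => conj ((χ : G → ℂ) g) with hθ
  obtain ⟨m, hm⟩ := exists_decomposition (isCharacter_mul (irr_isCharacter χ.2)
    (isCharacter_conj (irr_isCharacter χ.2)))
  rw [← hθ] at hm
  have hm1 : m oneC = 1 := by
    have h := decomposition_coeff m hm oneC
    have h' : classInner θ ((oneC : IrrCharacter G) : G → ℂ) =
        classInner (χ : G → ℂ) (χ : G → ℂ) := by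
      simp [classInner, hθ]
    rw [h', irr_self χ.2] at h
    exact_mod_cast h.symm
  obtain ⟨e1, e2⟩ := H.decomp_eqs m hm (a := 4) (b := 4)
    (by show (χ : G → ℂ) 1 * conj ((χ : G → ℂ) 1) = _; rw [apply_one, hd]; simp [map_ofNat]; norm_num)
    (by show (χ : G → ℂ) u * conj ((χ : G → ℂ) u) = _; rw [hv]; simp [map_ofNat]; norm_num)
  have hle : ∑ ψ ∈ live u, (m ψ : ℤ) * dg ψ ≤
      ∑ ψ ∈ Finset.univ.erase oneC, (m ψ : ℤ) * dg ψ := by
    refine Finset.sum_le_sum_of_subset_of_nonneg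
      (fun ψ hψ => Finset.mem_erase.2 ⟨(mem_live.1 hψ).1, Finset.mem_univ _⟩) fun ψ _ _ => ?_
    have := dg_pos ψ
    positivity
  rw [hm1] at e1 e2
  push_cast at e1 e2
  simp only [mul_sub, Finset.sum_sub_distrib, ← Finset.sum_mul] at e2
  have hP : 0 ≤ ∑ ψ ∈ live u, (m ψ : ℤ) := Finset.sum_nonneg fun ψ _ => by positivity
  have hz : ∑ ψ ∈ live u, (m ψ : ℤ) = 0 := by omega
  rw [hz] at e2
  have hz' : ∑ ψ ∈ live u, (m ψ : ℤ) * dg ψ = 0 :=
    Finset.sum_eq_zero fun ψ hψ => by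
      rw [(Finset.sum_eq_zero_iff_of_nonneg (fun ψ _ => by positivity)).1 hz ψ hψ, zero_mul]
  omega

end Hyp

/-- A sum of natural numbers that is at most two. -/
theorem sum_le_two {ι : Type*} [DecidableEq ι] {s : Finset ι} {f : ι → ℕ} (h : ∑ i ∈ s, f i ≤ 2) :
    (∀ i ∈ s, f i = 0) ∨ ∃ c ∈ s, 1 ≤ f c ∧ ((∀ i ∈ s, i ≠ c → f i = 0) ∨
      (f c = 1 ∧ ∃ c' ∈ s, c' ≠ c ∧ f c' = 1 ∧ ∀ i ∈ s, i ≠ c → i ≠ c' → f i = 0)) := by
  by_cases h0 : ∀ i ∈ s, f i = 0
  · exact Or.inl h0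
  push Not at h0
  obtain ⟨c, hc, hfc⟩ := h0
  refine Or.inr ⟨c, hc, Nat.pos_of_ne_zero hfc, ?_⟩
  by_cases h1 : ∀ i ∈ s, i ≠ c → f i = 0
  · exact Or.inl h1
  push Not at h1
  obtain ⟨c', hc', hne, hfc'⟩ := h1
  have hs := Finset.add_sum_erase s f hc
  have hs' := Finset.add_sum_erase (s.erase c) f (Finset.mem_erase.2 ⟨hne, hc'⟩)
  refine Or.inr ⟨by omega, c', hc', hne, by omega, fun i hi h2 h3 => ?_⟩
  have := Finset.single_le_sum (f := f) (fun j _ => Nat.zero_le (f j))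
    (Finset.mem_erase.2 ⟨h3, Finset.mem_erase.2 ⟨h2, hi⟩⟩)
  omega

theorem inner_decomp {θ θ' : G → ℂ} (m m' : IrrCharacter G → ℕ)
    (hm : θ = ∑ ψ, m ψ • (ψ : G → ℂ)) (hm' : θ' = ∑ ψ, m' ψ • (ψ : G → ℂ)) :
    classInner θ θ' = ((∑ ψ, m ψ * m' ψ : ℕ) : ℂ) := by
  have h : ∀ ψ : IrrCharacter G, classInner (ψ : G → ℂ) θ' = (m' ψ : ℂ) := fun ψ => by
    rw [← classInner_symm, decomposition_coeff m' hm' ψ, map_natCast]
  conv_lhs => rw [hm]
  simp only [← Nat.cast_smul_eq_nsmul ℂ, classInner_sum_left, classInner_smul_left, h,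
    Nat.cast_sum, Nat.cast_mul]

namespace Hyp

variable {u : G} (H : Hyp u)
include H

open scoped Classical in
/-- Product of two degree-three live characters. -/
theorem prod_case (m : IrrCharacter G → ℕ) (h1 : m oneC = 0)
    (e1 : (m oneC : ℤ) + ∑ ψ ∈ Finset.univ.erase oneC, (m ψ : ℤ) * dg ψ = 9)
    (e2 : (m oneC : ℤ) + ∑ ψ ∈ live u, (m ψ : ℤ) * (dg ψ - 4) = 1) :
    ∃ c ∈ live u, m c ≠ 0 ∧ (dg c = 5 ∨ dg c = 6) ∧
      (∀ ψ ∈ live u, m ψ ≠ 0 → dg ψ = 3 → dg c = 6) ∧ (∀ ψ, m ψ ≠ 0 → dg ψ ≤ 6) ∧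
      ∃ ψ, ψ ≠ c ∧ m ψ ≠ 0 := by
  rw [h1, Nat.cast_zero, zero_add] at e1 e2
  have hsub : live u ⊆ Finset.univ.erase oneC := fun ψ hψ =>
    Finset.mem_erase.2 ⟨(mem_live.1 hψ).1, Finset.mem_univ _⟩
  have hsplit := Finset.sum_sdiff (f := fun ψ => (m ψ : ℤ) * dg ψ) hsub
  have hdead : 0 ≤ ∑ ψ ∈ Finset.univ.erase oneC \ live u, (m ψ : ℤ) * dg ψ :=
    Finset.sum_nonneg fun ψ _ => by have := dg_pos ψ; positivity
  have h3 : 3 * ∑ ψ ∈ live u, (m ψ : ℤ) ≤ ∑ ψ ∈ live u, (m ψ : ℤ) * dg ψ := by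
    rw [Finset.mul_sum]
    exact Finset.sum_le_sum fun ψ hψ => by
      nlinarith [H.three_le hψ, (Int.natCast_nonneg (m ψ))]
  have e2' : ∑ ψ ∈ live u, (m ψ : ℤ) * dg ψ - (∑ ψ ∈ live u, (m ψ : ℤ)) * 4 = 1 := by
    rw [← e2, Finset.sum_mul, ← Finset.sum_sub_distrib]
    exact Finset.sum_congr rfl fun ψ _ => by ring
  have hP : ∑ ψ ∈ live u, m ψ ≤ 2 := by
    have : ((∑ ψ ∈ live u, m ψ : ℕ) : ℤ) ≤ 2 := by push_cast; omega
    exact_mod_cast this
  have hdb : ∀ ψ, ψ ≠ oneC → ψ ∉ live u → (m ψ : ℤ) * dg ψ ≤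
      ∑ ψ ∈ Finset.univ.erase oneC \ live u, (m ψ : ℤ) * dg ψ := fun ψ hψ hl =>
    Finset.single_le_sum (f := fun ψ => (m ψ : ℤ) * dg ψ)
      (fun j _ => by have := dg_pos j; positivity)
      (Finset.mem_sdiff.2 ⟨Finset.mem_erase.2 ⟨hψ, Finset.mem_univ _⟩, hl⟩)
  have hrest : ∀ ψ, m ψ ≠ 0 → ψ ∉ live u → dg ψ ≤
      ∑ ψ ∈ Finset.univ.erase oneC \ live u, (m ψ : ℤ) * dg ψ := fun ψ hψ hl => by
    refine le_trans ?_ (hdb ψ (fun e => hψ (e ▸ h1)) hl)
    nlinarith [dg_pos ψ, (show (1 : ℤ) ≤ (m ψ : ℤ) by omega)]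
  rcases sum_le_two hP with h0 | ⟨c, hc, hmc, h0 | ⟨hmc1, c', hc', hne, hmc', h0⟩⟩
  · exfalso
    rw [Finset.sum_eq_zero (f := fun ψ => (m ψ : ℤ) * (dg ψ - 4))
      (fun ψ hψ => by rw [h0 ψ hψ]; simp)] at e2
    omega
  · have eD := Finset.sum_eq_single_of_mem (f := fun ψ => (m ψ : ℤ) * (dg ψ - 4)) c hc
      (fun ψ hψ hne => by rw [h0 ψ hψ hne]; simp)
    have eL := Finset.sum_eq_single_of_mem (f := fun ψ => (m ψ : ℤ) * dg ψ) c hc
      (fun ψ hψ hne => by rw [h0 ψ hψ hne]; simp)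
    rw [eD] at e2
    have hm1 : m c = 1 := by
      have : (m c : ℤ) = 1 := Int.eq_one_of_mul_eq_one_right (by positivity) e2
      exact_mod_cast this
    rw [hm1, Nat.cast_one, one_mul] at e2 eL
    refine ⟨c, hc, by omega, Or.inl (by omega), fun ψ hψ hm h3 => ?_, fun ψ hψ => ?_, ?_⟩
    · by_cases e : ψ = c
      · subst e; omega
      · exact absurd (h0 ψ hψ e) hm
    · by_cases hl : ψ ∈ live u
      · by_cases e : ψ = c
        · subst e; omega
        · exact absurd (h0 ψ hl e) hψ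
      · have := hrest ψ hψ hl
        omega
    · by_contra hno
      push Not at hno
      have : ∑ ψ ∈ Finset.univ.erase oneC \ live u, (m ψ : ℤ) * dg ψ = 0 :=
        Finset.sum_eq_zero fun ψ hψ => by
          rw [hno ψ fun e => (Finset.mem_sdiff.1 hψ).2 (e ▸ hc)]; simp
      omega
  · have eD := Finset.sum_eq_add (s := live u) (f := fun ψ => (m ψ : ℤ) * (dg ψ - 4)) c c' hne.symm
      (fun ψ hψ hh => by rw [h0 ψ hψ hh.1 hh.2]; simp) (absurd hc) (absurd hc')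
    have eL := Finset.sum_eq_add (s := live u) (f := fun ψ => (m ψ : ℤ) * dg ψ) c c' hne.symm
      (fun ψ hψ hh => by rw [h0 ψ hψ hh.1 hh.2]; simp) (absurd hc) (absurd hc')
    simp only [hmc1, hmc', Nat.cast_one, one_mul] at eD eL
    rw [eD] at e2
    have := H.three_le hc
    have := H.three_le hc'
    have := H.ne_four hc
    have := H.ne_four hc'
    have hall : ∀ ψ, m ψ ≠ 0 → ψ = c ∨ ψ = c' := fun ψ hψ => by
      by_contra hh
      push Not at hh
      by_cases hl : ψ ∈ live u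
      · exact hψ (h0 ψ hl hh.1 hh.2)
      · have := hrest ψ hψ hl
        have := dg_pos ψ
        omega
    have hor : (dg c = 3 ∧ dg c' = 6) ∨ (dg c = 6 ∧ dg c' = 3) := by omega
    rcases hor with ⟨hd, hd'⟩ | ⟨hd, hd'⟩
    · refine ⟨c', hc', by omega, Or.inr hd', fun _ _ _ _ => hd', fun ψ hψ => ?_,
        c, hne.symm, by omega⟩
      rcases hall ψ hψ with rfl | rfl <;> omega
    · refine ⟨c, hc, by omega, Or.inr hd, fun _ _ _ _ => hd, fun ψ hψ => ?_, c', hne, by omega⟩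
      rcases hall ψ hψ with rfl | rfl <;> omega

open scoped Classical in
/-- Square of a degree-three live character. -/
theorem square_case (m : IrrCharacter G → ℕ) (h1 : m oneC = 1)
    (e1 : (m oneC : ℤ) + ∑ ψ ∈ Finset.univ.erase oneC, (m ψ : ℤ) * dg ψ = 9)
    (e2 : (m oneC : ℤ) + ∑ ψ ∈ live u, (m ψ : ℤ) * (dg ψ - 4) = 1)
    {c : IrrCharacter G} (hc : c ∈ live u) (hmc : m c ≠ 0) (hd : dg c = 3) :
    ∃ e ∈ live u, dg e = 5 ∧ m c = 1 ∧ m e = 1 ∧
      ∀ ψ, ψ ≠ oneC → ψ ≠ c → ψ ≠ e → m ψ = 0 := by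
  rw [h1, Nat.cast_one] at e1 e2
  have hsub : live u ⊆ Finset.univ.erase oneC := fun ψ hψ =>
    Finset.mem_erase.2 ⟨(mem_live.1 hψ).1, Finset.mem_univ _⟩
  have hsplit := Finset.sum_sdiff (f := fun ψ => (m ψ : ℤ) * dg ψ) hsub
  have hdead : 0 ≤ ∑ ψ ∈ Finset.univ.erase oneC \ live u, (m ψ : ℤ) * dg ψ :=
    Finset.sum_nonneg fun ψ _ => by have := dg_pos ψ; positivity
  have e2' : ∑ ψ ∈ live u, (m ψ : ℤ) * dg ψ = (∑ ψ ∈ live u, (m ψ : ℤ)) * 4 := by
    have : ∑ ψ ∈ live u, (m ψ : ℤ) * (dg ψ - 4) = 0 := by omega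
    rw [← sub_eq_zero, ← this, Finset.sum_mul, ← Finset.sum_sub_distrib]
    exact Finset.sum_congr rfl fun ψ _ => by ring
  have hP : ∑ ψ ∈ live u, m ψ ≤ 2 := by
    have : ((∑ ψ ∈ live u, m ψ : ℕ) : ℤ) ≤ 2 := by push_cast; omega
    exact_mod_cast this
  rcases sum_le_two hP with h0 | ⟨a, ha, hma, h0 | ⟨hma1, a', ha', hne, hma', h0⟩⟩
  · exact absurd (h0 c hc) hmc
  · exfalso
    have hca : c = a := by by_contra e; exact hmc (h0 c hc e)
    subst hca
    have eD := Finset.sum_eq_single_of_mem (f := fun ψ => (m ψ : ℤ) * (dg ψ - 4)) c hc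
      (fun ψ hψ hne => by rw [h0 ψ hψ hne]; simp)
    rw [eD, hd] at e2
    omega
  · have eD := Finset.sum_eq_add (s := live u) (f := fun ψ => (m ψ : ℤ) * (dg ψ - 4)) a a' hne.symm
      (fun ψ hψ hh => by rw [h0 ψ hψ hh.1 hh.2]; simp) (absurd ha) (absurd ha')
    have eL := Finset.sum_eq_add (s := live u) (f := fun ψ => (m ψ : ℤ) * dg ψ) a a' hne.symm
      (fun ψ hψ hh => by rw [h0 ψ hψ hh.1 hh.2]; simp) (absurd ha) (absurd ha')
    simp only [hma1, hma', Nat.cast_one, one_mul] at eD eL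
    rw [eD] at e2
    have hall : ∀ ψ, ψ ≠ oneC → ψ ≠ a → ψ ≠ a' → m ψ = 0 := fun ψ h h2 h3 => by
      by_cases hl : ψ ∈ live u
      · exact h0 ψ hl h2 h3
      · by_contra hh
        have hb : (m ψ : ℤ) * dg ψ ≤
            ∑ ψ ∈ Finset.univ.erase oneC \ live u, (m ψ : ℤ) * dg ψ :=
          Finset.single_le_sum (f := fun ψ => (m ψ : ℤ) * dg ψ)
            (fun j _ => by have := dg_pos j; positivity)
            (Finset.mem_sdiff.2 ⟨Finset.mem_erase.2 ⟨h, Finset.mem_univ _⟩, hl⟩)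
        have : 1 ≤ (m ψ : ℤ) * dg ψ := by
          nlinarith [dg_pos ψ, (show (1 : ℤ) ≤ (m ψ : ℤ) by omega)]
        omega
    by_cases hca : c = a
    · subst hca
      exact ⟨a', ha', by omega, hma1, hma', hall⟩
    · have hca' : c = a' := by by_contra e; exact hmc (h0 c hc hca e)
      subst hca'
      exact ⟨a, ha, by omega, hma', hma1, fun ψ h h2 h3 => hall ψ h h3 h2⟩

end Hyp

end Cfsg.Agent.Solv.ConstFour
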