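import Cfsg.Agent.Lib.Char.Indicator
import Cfsg.Agent.Lib.Char.Linear

/-!
Characters of degree three with trivial determinant.
-/

open scoped ComplexConjugate Matrix
open Cfsg Cfsg.Agent.Char Module

set_option autoImplicit false
set_option linter.style.haveILetI false

namespace Cfsg.Agent.Solv.ConstFour

variable {G : Type*} [Group G] [Fintype G]

/-- The skew-symmetric matrix of a vector. -/
noncomputable def skew : (Fin 3 → ℂ) →ₗ[ℂ] Matrix (Fin 3) (Fin 3) ℂ where
  toFun v := !![0, v 2, -v 1; -v 2, 0, v 0; v 1, -v 0, 0]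
  map_add' v w := by
    ext i j
    fin_cases i <;> fin_cases j <;> simp [add_comm]
  map_smul' c v := by
    ext i j
    fin_cases i <;> fin_cases j <;> simp

theorem skew_conj (A : Matrix (Fin 3) (Fin 3) ℂ) (v : Fin 3 → ℂ) :
    A * skew v * Aᵀ = skew ((A.adjugate)ᵀ *ᵥ v) := by
  ext i j
  fin_cases i <;> fin_cases j <;>
    simp [skew, Matrix.mul_apply, Fin.sum_univ_three, Matrix.adjugate_fin_three, Matrix.mulVec,
      dotProduct, Matrix.transpose_apply] <;> ring

theorem trace_adjugate (A : Matrix (Fin 3) (Fin 3) ℂ) :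
    A.trace * A.trace - (A * A).trace = 2 * A.adjugate.trace := by
  simp [Matrix.trace, Fin.sum_univ_three, Matrix.adjugate_fin_three, Matrix.mul_apply]
  ring

/-- Data of a character of degree three with trivial determinant. -/
theorem exists_matrices {χ : G → ℂ} (hχ : IsCharacter G χ) (h3 : χ 1 = 3)
    (hperf : commutator G = ⊤) :
    ∃ A : G →* Matrix (Fin 3) (Fin 3) ℂ, (∀ g, (A g).trace = χ g) ∧
      ∀ g, (A g).adjugate = A g⁻¹ := by
  obtain ⟨n, ρ, rfl⟩ := hχ
  obtain rfl : n = 3 := by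
    rw [Representation.char_one, finrank_fin_fun] at h3
    exact_mod_cast h3
  refine ⟨repMat ρ, repMat_trace ρ, fun g => ?_⟩
  set A := repMat ρ with hA
  let d : G →* ℂˣ := (Matrix.detMonoidHom.comp A).toHomUnits
  have hd : ∀ g, (A g).det = 1 := fun g => by
    have hle : commutator G ≤ d.ker := by
      rw [commutator_def, Subgroup.commutator_le]
      intro a _ b _
      rw [MonoidHom.mem_ker, map_commutatorElement]
      exact commutatorElement_eq_one_iff_mul_comm.2 (mul_comm _ _)
    rw [hperf, top_le_iff] at hle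
    have : g ∈ d.ker := hle ▸ Subgroup.mem_top g
    rw [MonoidHom.mem_ker] at this
    have := congrArg Units.val this
    simpa [d] using this
  have h1 : A g * A g⁻¹ = 1 := by rw [← map_mul, mul_inv_cancel, map_one]
  calc (A g).adjugate = (A g).adjugate * (A g * A g⁻¹) := by rw [h1, mul_one]
    _ = A g⁻¹ := by rw [← mul_assoc, Matrix.adjugate_mul, hd g, one_smul, one_mul]

theorem sq_sub_char_sq {χ : G → ℂ} (hχ : IsCharacter G χ) (h3 : χ 1 = 3)
    (hperf : commutator G = ⊤) (g : G) : χ g * χ g - χ (g * g) = 2 * conj (χ g) := by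
  obtain ⟨A, hA, hadj⟩ := exists_matrices hχ h3 hperf
  rw [← char_inv hχ g, ← hA g, ← hA (g * g), ← hA g⁻¹, map_mul, ← hadj g, trace_adjugate]

/-- The conjugate character occurs in the square. -/
theorem conj_in_square {χ : G → ℂ} (hχ : IsCharacter G χ) (h3 : χ 1 = 3)
    (hperf : commutator G = ⊤) :
    classInner (fun g => χ g * χ g) (fun g => conj (χ g)) ≠ 0 := by
  obtain ⟨A, hA, hadj⟩ := exists_matrices hχ h3 hperf
  let σ : Representation ℂ G (Matrix (Fin 3) (Fin 3) ℂ) := formRep A
  let τ : Representation ℂ G (Fin 3 → ℂ) :=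
    { toFun := fun g => Matrix.toLin' ((A g⁻¹)ᵀ)
      map_one' := by rw [inv_one, map_one, Matrix.transpose_one, Matrix.toLin'_one]; rfl
      map_mul' := fun a b => by
        rw [mul_inv_rev, map_mul, Matrix.transpose_mul, Matrix.toLin'_mul]; rfl }
  have hσ : σ.character = fun g => χ g * χ g := by
    funext g
    show LinearMap.trace ℂ _ (formRep A g) = _
    rw [trace_formRep, hA]
  have hτ : τ.character = fun g => conj (χ g) := by
    funext g
    show LinearMap.trace ℂ _ (Matrix.toLin' ((A g⁻¹)ᵀ)) = _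
    rw [LinearMap.trace_eq_matrix_trace ℂ (Pi.basisFun ℂ (Fin 3)), LinearMap.toMatrix_eq_toMatrix',
      LinearMap.toMatrix'_toLin', Matrix.trace_transpose, hA, char_inv hχ]
  rw [← hσ, ← hτ, classInner_rep]
  have hJ : ∀ g v, skew (τ g v) = σ g (skew v) := by
    intro g v
    show skew (Matrix.toLin' ((A g⁻¹)ᵀ) v) = A g * skew v * (A g)ᵀ
    rw [skew_conj, hadj, Matrix.toLin'_apply]
  let J : τ.IntertwiningMap σ := skew.intertwiningMap_of_isIntertwiningMap τ σ hJ
  have hJ0 : J ≠ 0 := by
    intro h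
    have h1 := congrArg (fun F : τ.IntertwiningMap σ => F (fun _ => (1 : ℂ))) h
    have h2 : skew (fun _ => (1 : ℂ)) 0 1 = (0 : ℂ) := congrFun (congrFun h1 0) 1
    simp [skew] at h2
  haveI : Nontrivial (τ.IntertwiningMap σ) := ⟨⟨J, 0, hJ0⟩⟩
  exact Nat.cast_ne_zero.2 (Module.finrank_pos (R := ℂ) (M := τ.IntertwiningMap σ)).ne'

end Cfsg.Agent.Solv.ConstFour
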