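import Cfsg.Agent.Lib.Solv.ConstFour.Real
import Cfsg.Agent.Lib.Char.Contribution

/-!
With a faithful live character of degree three, the centralizer of the element has order four.
-/

open scoped ComplexConjugate
open Cfsg Cfsg.Agent.Char

set_option autoImplicit false
set_option linter.style.haveILetI false

namespace Cfsg.Agent.Solv.ConstFour

universe u
variable {G : Type u} [Group G] [Fintype G]

theorem no_half {χ : G → ℂ} (h : IsCharacter G χ) (g : G) {k : ℤ} (hk : ¬(2 : ℤ) ∣ k)
    (he : 2 * χ g = (k : ℂ)) : False := by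
  obtain ⟨z, hz⟩ := isIntegral_rat_cast_imp (q := (k : ℚ) / 2) (by
    rw [show (((k : ℚ) / 2 : ℚ) : ℂ) = χ g by push_cast; linear_combination -(he / 2)]
    exact char_isIntegral h g)
  rw [eq_div_iff (two_ne_zero)] at hz
  exact hk ⟨z, by rw [mul_comm]; exact_mod_cast hz.symm⟩

/-- Values at a central element squaring to one. -/
theorem central_sign {z : G} (hz : ∀ c, z * c = c * z) (h2 : z * z = 1) (η : IrrCharacter G) :
    (∀ c, (η : G → ℂ) (z * c) = (η : G → ℂ) c) ∨ ∀ c, (η : G → ℂ) (z * c) = -(η : G → ℂ) c := by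
  obtain ⟨ζ, -, hc⟩ := exists_central_root hz η
  have h1 : ζ * ζ = 1 := by
    have h := hc (z * 1)
    rw [← mul_assoc, h2, one_mul, hc 1, ← mul_assoc] at h
    exact mul_right_cancel₀ (irr_one_ne_zero η.2) (by rw [one_mul]; exact h.symm)
  rcases mul_self_eq_one_iff.1 h1 with e | e
  · exact Or.inl fun c => by rw [hc, e, one_mul]
  · exact Or.inr fun c => by rw [hc, e, neg_one_mul]

namespace Hyp

variable {u : G} (H : Hyp u)
include H

theorem card_eq_four_mul : (Nat.card (Subgroup.centralizer ({u} : Set G)) : ℤ) =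
    -4 * ∑ χ ∈ live u, (dg χ - 4) := by
  have h1 := H.E1
  have h2 := H.E2
  rw [Finset.mul_sum, Finset.sum_congr rfl (g := fun χ => (dg χ - 4) ^ 2 - dg χ * (dg χ - 4))
    (fun χ _ => by ring), Finset.sum_sub_distrib]
  omega

theorem odd_sum : ¬(2 : ℤ) ∣ ∑ χ ∈ live u, (dg χ - 4) := fun h => by
  have h1 := H.E1
  have h2 : (2 : ℤ) ∣ ∑ χ ∈ live u, (dg χ * (dg χ - 4) - (dg χ - 4)) :=
    Finset.dvd_sum fun χ _ => by
      rcases Int.even_or_odd' (dg χ) with ⟨j, hj | hj⟩
      · exact ⟨(2 * j - 1) * (j - 2), by rw [hj]; ring⟩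
      · exact ⟨j * (2 * j - 3), by rw [hj]; ring⟩
  rw [Finset.sum_sub_distrib] at h2
  omega

theorem sq_eq_one {χ : IrrCharacter G} (hχ : χ ∈ live3 u)
    (hf : ∀ g, (χ : G → ℂ) g = (χ : G → ℂ) 1 → g = 1) : u * u = 1 :=
  hf _ (by rw [H.sq_at hχ, H.apply3 hχ, one3 hχ]; norm_num)

/-- On the centralizer of an involution a character of degree three splits off a sign. -/
theorem exists_sign {ψ : IrrCharacter G} (hψ : ψ ∈ live3 u) (h2 : u * u = 1) :
    ∃ l : Subgroup.centralizer ({u} : Set G) →* ℂˣ, (∀ x, l x = 1 ∨ l x = -1) ∧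
      ∀ x : Subgroup.centralizer ({u} : Set G),
        (ψ : G → ℂ) (x : G) + (ψ : G → ℂ) (u * (x : G)) = 2 * (l x : ℂ) := by
  classical
  set C := Subgroup.centralizer ({u} : Set G)
  have huC : u ∈ C := Subgroup.mem_centralizer_singleton_iff.2 rfl
  set z : C := ⟨u, huC⟩
  have hz : ∀ c : C, z * c = c * z := fun c =>
    Subtype.ext ((Subgroup.mem_centralizer_singleton_iff.1 c.2).symm)
  have hz2 : z * z = 1 := Subtype.ext h2
  obtain ⟨m, hm⟩ := exists_decomposition (χ := fun x : C => (ψ : G → ℂ) (x : G))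
    (isCharacter_comp C.subtype (irr_isCharacter ψ.2))
  let P := Finset.univ.filter fun η : IrrCharacter C => ∀ c, (η : C → ℂ) (z * c) = (η : C → ℂ) c
  have hsum : ∀ x : C, (ψ : G → ℂ) (x : G) + (ψ : G → ℂ) (u * (x : G)) =
      2 * ∑ η ∈ P, (m η : ℂ) * (η : C → ℂ) x := fun x => by
    have a := one_eq m hm x
    have b := one_eq m hm (z * x)
    change (ψ : G → ℂ) (u * (x : G)) = _ at b
    rw [a, b, ← Finset.sum_add_distrib, Finset.mul_sum,
      ← Finset.sum_subset (Finset.subset_univ P) (fun η _ hη => by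
        rcases central_sign hz hz2 η with h | h
        · exact absurd (Finset.mem_filter.2 ⟨Finset.mem_univ _, h⟩) hη
        · rw [h]; ring)]
    exact Finset.sum_congr rfl fun η hη => by rw [(Finset.mem_filter.1 hη).2 x]; ring
  have h1 : ∑ η ∈ P, m η * deg (η : C → ℂ) = 1 := by
    have h := hsum 1
    rw [OneMemClass.coe_one, mul_one, one3 hψ, H.apply3 hψ] at h
    have : ((∑ η ∈ P, m η * deg (η : C → ℂ) : ℕ) : ℂ) = 1 := by
      rw [Nat.cast_sum, Finset.sum_congr rfl (g := fun η => (m η : ℂ) * (η : C → ℂ) 1)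
        (fun η _ => by rw [Nat.cast_mul, char_one_eq_deg (irr_isCharacter η.2)])]
      linear_combination -(h / 2)
    exact_mod_cast this
  rcases sum_le_two (f := fun η => m η * deg (η : C → ℂ)) (s := P) (by omega) with
    h0 | ⟨η, hη, -, h0 | ⟨e, η', hη', hne, e', -⟩⟩
  · rw [Finset.sum_eq_zero h0] at h1; omega
  · rw [Finset.sum_eq_single_of_mem η hη h0] at h1
    obtain ⟨hm1, hd1⟩ := mul_eq_one.1 h1
    obtain ⟨l, hl⟩ := exists_hom_of_degree_one (irr_isCharacter η.2)
      (by rw [char_one_eq_deg (irr_isCharacter η.2), hd1, Nat.cast_one])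
    have hv : ∀ x : C, (ψ : G → ℂ) (x : G) + (ψ : G → ℂ) (u * (x : G)) = 2 * (l x : ℂ) := fun x => by
      rw [hsum x, Finset.sum_eq_single_of_mem η hη (fun j hj hje => ?_), hm1, Nat.cast_one, one_mul,
        hl]
      rcases mul_eq_zero.1 (h0 j hj hje) with h | h
      · rw [h, Nat.cast_zero, zero_mul]
      · exact absurd h (deg_pos j.2).ne'
    refine ⟨l, fun x => ?_, hv⟩
    have hre : conj (l x : ℂ) = l x := by
      have h := congrArg conj (hv x)
      rw [map_add, map_mul, H.real3_apply hψ, H.real3_apply hψ, map_ofNat, hv x] at h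
      exact (mul_left_cancel₀ two_ne_zero h).symm
    have hn : ‖(l x : ℂ)‖ = 1 := root_of_unity_norm (orderOf_pos x).ne' (linear_pow_card l x)
    have h3 : (l x : ℂ) * (l x : ℂ) = 1 := by
      nth_rw 1 [← hre]
      rw [Complex.conj_mul', hn]
      simp
    rcases mul_self_eq_one_iff.1 h3 with h | h
    · exact Or.inl (Units.val_eq_one.1 h)
    · exact Or.inr (Units.ext (by rw [h, Units.val_neg, Units.val_one]))
  · have h := Finset.sum_le_sum_of_subset (f := fun η => m η * deg (η : C → ℂ))
      (show ({η, η'} : Finset (IrrCharacter C)) ⊆ P by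
        intro a ha
        rcases Finset.mem_insert.1 ha with rfl | ha
        · exact hη
        · exact (Finset.mem_singleton.1 ha) ▸ hη')
    rw [Finset.sum_pair hne.symm] at h
    omega

theorem card_centralizer_faithful {χ : IrrCharacter G} (hχ : χ ∈ live3 u)
    (hf : ∀ g, (χ : G → ℂ) g = (χ : G → ℂ) 1 → g = 1) :
    Nat.card (Subgroup.centralizer ({u} : Set G)) = 4 := by
  classical
  have h2 := H.sq_eq_one hχ hf
  set C := Subgroup.centralizer ({u} : Set G)
  have huC : u ∈ C := Subgroup.mem_centralizer_singleton_iff.2 rfl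
  obtain ⟨l, hl, hv⟩ := H.exists_sign hχ h2
  set K := l.ker
  have hidx : K.index ≤ 2 := by
    rw [Subgroup.index_ker]
    calc Nat.card l.range ≤ ({1, -1} : Set ℂˣ).ncard := by
          rw [← Nat.card_coe_set_eq]
          refine Nat.card_le_card_of_injective (fun y => (⟨y.1, ?_⟩ : ({1, -1} : Set ℂˣ))) ?_
          · obtain ⟨x, hx⟩ := y.2
            rw [← hx]
            exact hl x
          · intro a b h
            exact Subtype.ext (congrArg (fun w : ({1, -1} : Set ℂˣ) => w.1) h)
      _ ≤ 2 := (Set.ncard_insert_le _ _).trans (by rw [Set.ncard_singleton])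
  have huK : (⟨u, huC⟩ : C) ∈ K := by
    have h := hv ⟨u, huC⟩
    rw [h2, H.apply3 hχ, one3 hχ] at h
    refine MonoidHom.mem_ker.2 (Units.val_eq_one.1 ?_)
    linear_combination -(h / 2)
  set z : K := ⟨⟨u, huC⟩, huK⟩
  have hz : ∀ c : K, z * c = c * z := fun c =>
    Subtype.ext (Subtype.ext ((Subgroup.mem_centralizer_singleton_iff.1 (c : C).2).symm))
  have hz2 : z * z = 1 := Subtype.ext (Subtype.ext h2)
  have hz1 : z ≠ 1 := fun h => H.ne_one (congrArg (fun x : K => ((x : C) : G)) h)
  let emb : K →* G := C.subtype.comp K.subtype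
  have hK : ∀ x : K, (χ : G → ℂ) (emb x) + (χ : G → ℂ) (u * emb x) = 2 := fun x => by
    have h := hv (x : C)
    rw [MonoidHom.mem_ker.1 x.2, Units.val_one, mul_one] at h
    exact h
  -- all live characters of degree three agree on the kernel
  have hagree : ∀ ψ ∈ live3 u, ∀ x : K, (ψ : G → ℂ) (emb x) = (χ : G → ℂ) (emb x) := by
    intro ψ hψ x
    rcases H.dichotomy hχ hψ (emb x) with h | h
    · exact h.symm
    exfalso
    obtain ⟨l', hl', hv'⟩ := H.exists_sign hψ h2
    have a := hK x
    have b : (ψ : G → ℂ) (emb x) + (ψ : G → ℂ) (u * emb x) = 2 * (l' (x : C) : ℂ) := hv' (x : C)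
    rcases H.dichotomy hχ hψ (u * emb x) with h' | h' <;> rcases hl' (x : C) with e | e <;>
      rw [e] at b <;> simp only [Units.val_neg, Units.val_one] at b
    · exact no_half (irr_isCharacter χ.2) (emb x) (k := 1) (by omega)
        (by push_cast; linear_combination h + a - b - h')
    · exact no_half (irr_isCharacter χ.2) (emb x) (k := 5) (by omega)
        (by push_cast; linear_combination h + a - b - h')
    · exact absurd (show (2 : ℂ) = 0 by linear_combination h + h' - a - b) two_ne_zero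
    · exact absurd (show (2 : ℂ) = 0 by linear_combination -h - h' + a + b) two_ne_zero
  have hclass : ∀ x : K, IsConj (emb x) u → x = z := fun x hx => by
    obtain ⟨c, hc⟩ := isConj_iff.1 hx
    have h1 : (χ : G → ℂ) (emb x) = -1 := by
      rw [← isClassFunction_character (irr_isCharacter χ.2) (emb x) c, hc, H.apply3 hχ]
    have h3 : u * emb x = 1 := hf _ (by rw [one3 hχ]; linear_combination hK x - h1)
    refine Subtype.ext (Subtype.ext ?_)
    show emb x = u
    rw [← inv_eq_of_mul_eq_one_right h3]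
    exact inv_eq_of_mul_eq_one_right h2
  -- every character odd at the element is a constituent
  have hcon : ∀ η : IrrCharacter K, (η : K → ℂ) z ≠ (η : K → ℂ) 1 →
      classInner (fun x : K => (χ : G → ℂ) (emb x)) (η : K → ℂ) ≠ 0 := by
    intro η hη hzero
    have hηz : (η : K → ℂ) z = -(η : K → ℂ) 1 := by
      rcases central_sign hz hz2 η with h | h
      · exact absurd (by simpa using h 1) hη
      · simpa using h 1
    let F : K → ℂ := fun x => 1 + ∑ φ ∈ live u, ((dg φ - 4 : ℤ) : ℂ) * (φ : G → ℂ) (emb x)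
    have hF : ∀ x : K, F x = if x = z then (Nat.card C : ℂ) else 0 := fun x => by
      show 1 + _ = _
      rw [H.column (emb x)]
      by_cases e : x = z
      · subst e; rw [if_pos rfl, if_pos (show IsConj (emb z) u from IsConj.refl u)]
      · rw [if_neg e, if_neg fun h => e (hclass x h)]
    have hl : classInner F (η : K → ℂ) =
        (Nat.card K : ℂ)⁻¹ * ((Nat.card C : ℂ) * conj ((η : K → ℂ) z)) := by
      simp [classInner, hF]
    have hN : ∀ φ : IrrCharacter G, ∃ n : ℕ,
        classInner (fun x : K => (φ : G → ℂ) (emb x)) (η : K → ℂ) = n := fun φ =>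
      classInner_natCast (isCharacter_comp emb (irr_isCharacter φ.2)) (irr_isCharacter η.2)
    choose N hN using hN
    have hr : classInner F (η : K → ℂ) = ((∑ φ ∈ live5 u, (dg φ - 4) * (N φ : ℤ) : ℤ) : ℂ) := by
      have e : F = (oneC : IrrCharacter K).1 + fun x => ∑ φ ∈ live u,
          ((dg φ - 4 : ℤ) : ℂ) • (fun y : K => (φ : G → ℂ) (emb y)) x := rfl
      rw [e, classInner_add_left, irrC_orth, if_neg (fun h => hη (by rw [← h]; simp)), zero_add]
      have e2 : (fun x => ∑ φ ∈ live u,
          ((dg φ - 4 : ℤ) : ℂ) • (fun y : K => (φ : G → ℂ) (emb y)) x) =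
          ∑ φ ∈ live u, ((dg φ - 4 : ℤ) : ℂ) • (fun y : K => (φ : G → ℂ) (emb y)) := by
        funext x; simp [Finset.sum_apply]
      rw [e2, classInner_sum_left, Int.cast_sum]
      symm
      refine Finset.sum_subset_zero_on_sdiff (fun φ hφ => (mem_live5.1 hφ).1) (fun φ hφ => ?_)
        (fun φ _ => ?_)
      · have h3 : φ ∈ live3 u := by
          obtain ⟨a, b⟩ := Finset.mem_sdiff.1 hφ
          exact mem_live3.2 ⟨a, by by_contra h; exact b (mem_live5.2 ⟨a, h⟩)⟩
        rw [classInner_smul_left, show (fun y : K => (φ : G → ℂ) (emb y)) =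
          fun y : K => (χ : G → ℂ) (emb y) from funext (hagree φ h3), hzero, mul_zero]
      · rw [classInner_smul_left, hN φ]; push_cast; rfl
    rw [hr, hηz, map_neg, conj_char_one (irr_isCharacter η.2),
      char_one_eq_deg (irr_isCharacter η.2), eq_inv_mul_iff_mul_eq₀
        (Nat.cast_ne_zero.2 Nat.card_pos.ne')] at hl
    have h4 : (Nat.card K : ℤ) * ∑ φ ∈ live5 u, (dg φ - 4) * (N φ : ℤ) =
        -((Nat.card C : ℤ) * (deg (η : K → ℂ) : ℤ)) := by
      rw [← Int.cast_inj (α := ℂ)]
      push_cast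
      push_cast at hl
      linear_combination hl
    have h5 : 0 ≤ ∑ φ ∈ live5 u, (dg φ - 4) * (N φ : ℤ) := Finset.sum_nonneg fun φ hφ => by
      have := H.five_le hφ
      exact mul_nonneg (by omega) (Int.natCast_nonneg _)
    have h6 : 0 < (Nat.card C : ℤ) * (deg (η : K → ℂ) : ℤ) := by
      have := deg_pos η.2
      have := Nat.card_pos (α := C)
      positivity
    have h7 := mul_nonneg (Int.natCast_nonneg (Nat.card K)) h5
    omega
  -- the odd part
  let M := Finset.univ.filter fun η : IrrCharacter K => (η : K → ℂ) z ≠ (η : K → ℂ) 1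
  have hM : ∀ η : IrrCharacter K, (η : K → ℂ) 1 - (η : K → ℂ) z =
      if η ∈ M then 2 * (η : K → ℂ) 1 else 0 := fun η => by
    split_ifs with h
    · rcases central_sign hz hz2 η with e | e
      · exact absurd (by simpa using e 1) (Finset.mem_filter.1 h).2
      · rw [show (η : K → ℂ) z = -(η : K → ℂ) 1 by simpa using e 1]; ring
    · rw [sub_eq_zero]
      by_contra e
      exact h (Finset.mem_filter.2 ⟨Finset.mem_univ _, Ne.symm e⟩)
  have hk : 2 * ∑ η ∈ M, deg (η : K → ℂ) * deg (η : K → ℂ) = Nat.card K := by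
    have a := regular_sum (1 : K)
    have b := regular_sum z
    rw [if_pos rfl] at a
    rw [if_neg hz1] at b
    have : ((2 * ∑ η ∈ M, deg (η : K → ℂ) * deg (η : K → ℂ) : ℕ) : ℂ) = (Nat.card K : ℂ) := by
      rw [← a, ← sub_zero (∑ η : IrrCharacter K, (η : K → ℂ) 1 * (η : K → ℂ) 1), ← b,
        ← Finset.sum_sub_distrib, Nat.cast_mul, Nat.cast_sum, Finset.mul_sum]
      rw [Finset.sum_congr rfl (s₁ := Finset.univ)
        (g := fun η => if η ∈ M then (η : K → ℂ) 1 * (2 * (η : K → ℂ) 1) else 0)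
        (fun η _ => by rw [← mul_sub, hM η, mul_ite, mul_zero]), Finset.sum_ite_mem,
        Finset.univ_inter]
      refine Finset.sum_congr rfl fun η _ => ?_
      rw [char_one_eq_deg (irr_isCharacter η.2)]
      push_cast
      ring
    exact_mod_cast this
  obtain ⟨m, hm⟩ := exists_decomposition (χ := fun x : K => (χ : G → ℂ) (emb x))
    (isCharacter_comp emb (irr_isCharacter χ.2))
  have htot : ∑ η ∈ M, m η * deg (η : K → ℂ) = 2 := by
    have a := one_eq m hm 1
    have b := one_eq m hm z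
    rw [map_one, one3 hχ] at a
    change (χ : G → ℂ) u = _ at b
    rw [H.apply3 hχ] at b
    have c : (4 : ℂ) = ∑ η : IrrCharacter K, (m η : ℂ) * ((η : K → ℂ) 1 - (η : K → ℂ) z) := by
      simp only [mul_sub, Finset.sum_sub_distrib, ← a, ← b]
      norm_num
    rw [Finset.sum_congr rfl (s₁ := Finset.univ)
      (g := fun η => if η ∈ M then (m η : ℂ) * (2 * (η : K → ℂ) 1) else 0)
      (fun η _ => by rw [hM η, mul_ite, mul_zero]), Finset.sum_ite_mem, Finset.univ_inter] at c
    have : ((2 * ∑ η ∈ M, m η * deg (η : K → ℂ) : ℕ) : ℂ) = ((4 : ℕ) : ℂ) := by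
      rw [Nat.cast_ofNat, c, Nat.cast_mul, Nat.cast_sum, Finset.mul_sum]
      refine Finset.sum_congr rfl fun η _ => ?_
      rw [char_one_eq_deg (irr_isCharacter η.2)]
      push_cast
      ring
    have := (Nat.cast_inj (R := ℂ)).1 this
    omega
  have hpos : ∀ η ∈ M, 1 ≤ m η := fun η hη => by
    by_contra h
    refine hcon η (Finset.mem_filter.1 hη).2 ?_
    rw [decomposition_coeff m hm η, show m η = 0 by omega, Nat.cast_zero]
  have hle : ∑ η ∈ M, deg (η : K → ℂ) ≤ 2 := by
    rw [← htot]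
    exact Finset.sum_le_sum fun η hη => Nat.le_mul_of_pos_left _ (hpos η hη)
  have hk3 : Nat.card K = 2 ∨ Nat.card K = 4 ∨ Nat.card K = 8 := by
    have hkp := Nat.card_pos (α := K)
    rcases sum_le_two hle with h0 | ⟨c, hc, h1, h0 | ⟨e, c', hc', hne, e', h0⟩⟩
    · rw [Finset.sum_eq_zero fun η hη => by rw [h0 η hη, mul_zero]] at hk
      omega
    · rw [Finset.sum_eq_single_of_mem c hc fun η hη hne => by rw [h0 η hη hne, mul_zero]] at hk
      have := Finset.single_le_sum (f := fun η : IrrCharacter K => deg (η : K → ℂ))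
        (fun _ _ => Nat.zero_le _) hc
      rcases (show deg (c : K → ℂ) = 1 ∨ deg (c : K → ℂ) = 2 by omega) with h | h <;>
        rw [h] at hk <;> omega
    · rw [Finset.sum_eq_add c c' hne.symm (fun η hη hh => by rw [h0 η hη hh.1 hh.2, mul_zero])
        (absurd hc) (absurd hc'), e, e'] at hk
      omega
  have hn : Nat.card K * K.index = Nat.card C := Subgroup.card_mul_index K
  have hi : K.index = 1 ∨ K.index = 2 := by
    have : K.index ≠ 0 := Subgroup.index_ne_zero_of_finite
    omega
  have hf4 : (Nat.card C : ℤ) = -4 * ∑ φ ∈ live u, (dg φ - 4) := H.card_eq_four_mul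
  have hodd := H.odd_sum
  show Nat.card C = 4
  rcases hk3 with h | h | h <;> rcases hi with h' | h' <;> rw [h, h'] at hn <;> omega

end Hyp

end Cfsg.Agent.Solv.ConstFour
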