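import Cfsg.Agent.Lib.Solv.ConstFour.Faithful
import Cfsg.Agent.Lib.Char.Inflate
import Cfsg.Agent.Lib.Char.Codegree
import Cfsg.Agent.Lib.Char.Convolution

/-!
The quotient by the kernel of a live character of degree three has order sixty.
-/

open scoped ComplexConjugate
open Cfsg Cfsg.Agent.Char

set_option autoImplicit false
set_option linter.style.haveILetI false

namespace Cfsg.Agent.Solv.ConstFour

universe u
variable {G : Type u} [Group G] [Fintype G]

/-- Inflation of an irreducible character of a quotient. -/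
noncomputable def infl (N : Subgroup G) [N.Normal] [Fintype (G ⧸ N)] (φ : IrrCharacter (G ⧸ N)) :
    IrrCharacter G := (inflateEquiv N φ).1

section infl

variable {N : Subgroup G} [N.Normal] [Fintype (G ⧸ N)]

theorem infl_apply (φ : IrrCharacter (G ⧸ N)) (g : G) :
    (infl N φ : G → ℂ) g = (φ : G ⧸ N → ℂ) (g : G ⧸ N) := rfl

theorem infl_injective : Function.Injective (infl N) := fun _ _ h =>
  (inflateEquiv N).injective (Subtype.ext h)

theorem infl_oneC : infl N (oneC : IrrCharacter (G ⧸ N)) = oneC := rfl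

theorem infl_eq_oneC {φ : IrrCharacter (G ⧸ N)} : infl N φ = oneC ↔ φ = oneC :=
  ⟨fun h => infl_injective (h.trans infl_oneC.symm), fun h => h ▸ infl_oneC⟩

theorem dg_infl (φ : IrrCharacter (G ⧸ N)) : dg (infl N φ) = dg φ := by
  have h := apply_one (infl N φ)
  rw [infl_apply, QuotientGroup.mk_one, apply_one] at h
  exact_mod_cast h.symm

theorem infl_mem_live {u : G} {φ : IrrCharacter (G ⧸ N)} :
    infl N φ ∈ live u ↔ φ ∈ live (u : G ⧸ N) := by
  rw [mem_live, mem_live, ne_eq, infl_eq_oneC, infl_apply]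

theorem infl_mem_live3 {u : G} {φ : IrrCharacter (G ⧸ N)} :
    infl N φ ∈ live3 u ↔ φ ∈ live3 (u : G ⧸ N) := by
  rw [mem_live3, mem_live3, infl_mem_live, dg_infl]

theorem exists_infl {χ : IrrCharacter G} (h : ∀ n ∈ N, (χ : G → ℂ) n = (χ : G → ℂ) 1) :
    ∃ φ : IrrCharacter (G ⧸ N), infl N φ = χ := by
  obtain ⟨φ, hφ⟩ := (inflateEquiv N).surjective ⟨χ, h⟩
  exact ⟨φ, congrArg Subtype.val hφ⟩

end infl

namespace Hyp

variable {u : G} (H : Hyp u)
include H

theorem quot (N : Subgroup G) [N.Normal] [Fintype (G ⧸ N)] (hN : u ∉ N) :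
    Hyp (u : G ⧸ N) where
  ne_one h := hN ((QuotientGroup.eq_one_iff u).1 h)
  perfect := by
    have h : (commutator G).map (QuotientGroup.mk' N) = commutator (G ⧸ N) := by
      rw [commutator_def, commutator_def, Subgroup.map_commutator,
        Subgroup.map_top_of_surjective _ (QuotientGroup.mk'_surjective N)]
    rw [← h, H.perfect, Subgroup.map_top_of_surjective _ (QuotientGroup.mk'_surjective N)]
  val φ hφ := by
    have h := H.val (infl N φ) fun e => hφ (infl_eq_oneC.1 e)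
    rwa [infl_apply, infl_apply, QuotientGroup.mk_one] at h

theorem eq_top_of_mem (N : Subgroup G) [N.Normal] [Fintype (G ⧸ N)] (hN : u ∈ N) : N = ⊤ := by
  classical
  have h1 : ∀ φ : IrrCharacter (G ⧸ N), φ = oneC := fun φ => by
    by_contra hφ
    have h := H.val (infl N φ) fun e => hφ (infl_eq_oneC.1 e)
    rw [infl_apply, infl_apply, QuotientGroup.mk_one, (QuotientGroup.eq_one_iff u).2 hN,
      sub_self] at h
    rcases h with h | h
    · norm_num at h
    · exact irr_one_ne_zero φ.2 h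
  have h2 := sum_sq_deg (G := G ⧸ N)
  rw [Fintype.sum_eq_single (oneC : IrrCharacter (G ⧸ N)) fun φ h => absurd (h1 φ) h,
    oneC_apply, one_pow] at h2
  exact Subgroup.index_eq_one.1 (by exact_mod_cast h2.symm)

theorem shape (hn : Nat.card (Subgroup.centralizer ({u} : Set G)) = 4) :
    (live3 u).card = 2 ∧ ∃ e, live5 u = {e} ∧ dg e = 5 := by
  classical
  have h1 := H.card_eq_four_mul
  rw [hn] at h1
  have h2 := H.sum5
  have h3 : ∑ χ ∈ live3 u, (dg χ - 4) = -((live3 u).card : ℤ) := by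
    rw [Finset.sum_congr rfl (g := fun _ => (-1 : ℤ))
      (fun χ hχ => by rw [(mem_live3.1 hχ).2]; norm_num), Finset.sum_const, nsmul_eq_mul]
    ring
  rw [← Finset.sum_filter_add_sum_filter_not (live u) (fun χ => dg χ = 3)] at h1
  simp only [live3, live5] at h2 h3 ⊢
  set S := (live u).filter fun χ => ¬dg χ = 3 with hS
  have h4 : ∑ χ ∈ S, (dg χ * (dg χ - 4) - 3 * (dg χ - 4)) = 2 := by
    rw [Finset.sum_sub_distrib, ← Finset.mul_sum]; omega
  have h5 : ∀ χ ∈ S, 5 ≤ dg χ := fun χ hχ => H.five_le (by simpa [live5, hS] using hχ)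
  have h6 : ∀ χ ∈ S, 2 ≤ dg χ * (dg χ - 4) - 3 * (dg χ - 4) := fun χ hχ => by
    nlinarith [h5 χ hχ]
  have h7 := Finset.card_nsmul_le_sum S _ 2 h6
  rw [h4, nsmul_eq_mul] at h7
  have hne : S.Nonempty := by
    by_contra h
    rw [Finset.not_nonempty_iff_eq_empty.1 h, Finset.sum_empty] at h4
    norm_num at h4
  have := hne.card_pos
  obtain ⟨e, he⟩ := Finset.card_eq_one.1 (show S.card = 1 by omega)
  rw [he, Finset.sum_singleton] at h4
  have he5 := h5 e (by rw [he]; exact Finset.mem_singleton_self e)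
  have hd : dg e = 5 := by nlinarith
  refine ⟨?_, e, he, hd⟩
  rw [he, Finset.sum_singleton, hd] at h1
  omega

theorem card_of_two (h : (live3 u).card = 2) :
    Nat.card (Subgroup.centralizer ({u} : Set G)) = 4 := by
  classical
  have h1 := H.card_eq_four_mul
  have h2 := H.sum5
  have h3 : ∑ χ ∈ live3 u, (dg χ - 4) = -((live3 u).card : ℤ) := by
    rw [Finset.sum_congr rfl (g := fun _ => (-1 : ℤ))
      (fun χ hχ => by rw [(mem_live3.1 hχ).2]; norm_num), Finset.sum_const, nsmul_eq_mul]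
    ring
  rw [← Finset.sum_filter_add_sum_filter_not (live u) (fun χ => dg χ = 3)] at h1
  simp only [live3, live5] at h h2 h3
  set S := (live u).filter fun χ => ¬dg χ = 3 with hS
  rw [h] at h2 h3
  have h5 : ∀ χ ∈ S, 5 ≤ dg χ := fun χ hχ => H.five_le (by simpa [live5, hS] using hχ)
  have h6 : ∀ χ ∈ S, 5 ≤ dg χ * (dg χ - 4) := fun χ hχ => by
    nlinarith [h5 χ hχ]
  have h7 := Finset.card_nsmul_le_sum S _ 5 h6
  rw [h2, nsmul_eq_mul] at h7
  have hne : S.Nonempty := by
    by_contra h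
    rw [Finset.not_nonempty_iff_eq_empty.1 h, Finset.sum_empty] at h2
    norm_num at h2
  have := hne.card_pos
  obtain ⟨e, he⟩ := Finset.card_eq_one.1 (show S.card = 1 by omega)
  rw [he, Finset.sum_singleton] at h2
  have he5 := h5 e (by rw [he]; exact Finset.mem_singleton_self e)
  push_cast at h2
  have hd : dg e = 5 := by nlinarith
  rw [he, Finset.sum_singleton, hd, h3] at h1
  omega

theorem simple_faithful {χ : IrrCharacter G} (hχ : χ ∈ live3 u)
    (hf : ∀ g, (χ : G → ℂ) g = (χ : G → ℂ) 1 → g = 1) : IsSimpleGroup G := by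
  classical
  haveI : Nontrivial G := ⟨⟨u, 1, H.ne_one⟩⟩
  refine ⟨fun N hN => ?_⟩
  haveI := Fintype.ofFinite (G ⧸ N)
  by_cases hu : u ∈ N
  · exact Or.inr (H.eq_top_of_mem N hu)
  left
  obtain ⟨φ, hφ⟩ := Finset.card_pos.1 (lt_of_lt_of_le two_pos (H.quot N hu).two_le_card3)
  refine (Subgroup.eq_bot_iff_forall N).2 fun n hn => hf n (H.ker_eq (infl_mem_live3.2 hφ) hχ ?_)
  rw [infl_apply, infl_apply, (QuotientGroup.eq_one_iff n).2 hn, QuotientGroup.mk_one]

theorem sum_live {f : IrrCharacter G → ℂ} (hn : Nat.card (Subgroup.centralizer ({u} : Set G)) = 4)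
    {a b : ℂ} (ha : ∀ φ ∈ live3 u, f φ = a) (hb : ∀ φ ∈ live5 u, dg φ = 5 → f φ = b) :
    ∑ φ ∈ live u, f φ = 2 * a + b := by
  classical
  obtain ⟨h2, e, he, hd⟩ := H.shape hn
  rw [← Finset.sum_filter_add_sum_filter_not (live u) (fun χ => dg χ = 3)]
  show ∑ φ ∈ (live3 u : Finset (IrrCharacter G)), f φ + ∑ φ ∈ live5 u, f φ = _
  rw [Finset.sum_congr rfl ha, Finset.sum_const, h2, he, Finset.sum_singleton,
    hb e (by rw [he]; exact Finset.mem_singleton_self e) hd, nsmul_eq_mul]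
  norm_num

theorem faithful_structure {χ : IrrCharacter G} (hχ : χ ∈ live3 u)
    (hf : ∀ g, (χ : G → ℂ) g = (χ : G → ℂ) 1 → g = 1) :
    u * u = 1 ∧ Nat.card G = 60 ∧ IsSimpleGroup G ∧
      (∀ w, w * u = u * w → w ≠ 1 → w ≠ u → IsConj w u) ∧
      ∃ w, w * u = u * w ∧ w ≠ 1 ∧ w ≠ u := by
  classical
  have h2 := H.sq_eq_one hχ hf
  have hn := H.card_centralizer_faithful hχ hf
  refine ⟨h2, ?_⟩
  have hui : u⁻¹ = u := inv_eq_of_mul_eq_one_right h2
  set T := Finset.univ.filter fun t : G => IsConj (u * (t * u * t⁻¹)) u with hTdef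
  -- counting
  have hcount : (Nat.card G : ℂ) * (8 / 15) = (T.card : ℂ) * 4 := by
    have hval : ∑ φ : IrrCharacter G, ((φ : G → ℂ) u * (φ : G → ℂ) u / (φ : G → ℂ) 1) *
        (φ : G → ℂ) u = 8 / 15 := by
      rw [H.sum_val, H.sum_live hn (a := -1 / 3) (b := 1 / 5)]
      · simp only [oneC_apply]; norm_num
      · intro φ hφ
        rw [H.apply3 hφ, one3 hφ, (mem_live3.1 hφ).2]; norm_num
      · intro φ hφ hd
        rw [H.apply_live (mem_live5.1 hφ).1, apply_one, hd]; norm_num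
    calc (Nat.card G : ℂ) * (8 / 15)
        = ∑ φ : IrrCharacter G, (∑ t : G, (φ : G → ℂ) (u * (t * u * t⁻¹))) * (φ : G → ℂ) u := by
          rw [← hval, Finset.mul_sum]
          refine Finset.sum_congr rfl fun φ _ => ?_
          have h1 := sum_conj_mul φ.2 u u
          have h0 := irr_one_ne_zero φ.2
          field_simp
          linear_combination (-(φ : G → ℂ) u) * h1
      _ = ∑ t : G, if t ∈ T then (4 : ℂ) else 0 := by
          simp only [Finset.sum_mul]
          rw [Finset.sum_comm]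
          refine Finset.sum_congr rfl fun t _ => ?_
          rw [H.sum_val fun φ => (φ : G → ℂ) (u * (t * u * t⁻¹)), oneC_apply,
            show ∑ φ ∈ live u, (φ : G → ℂ) (u * (t * u * t⁻¹)) * ((dg φ - 4 : ℤ) : ℂ) =
              ∑ φ ∈ live u, ((dg φ - 4 : ℤ) : ℂ) * (φ : G → ℂ) (u * (t * u * t⁻¹)) from
              Finset.sum_congr rfl fun φ _ => mul_comm _ _, H.column, hn]
          simp [hTdef]
      _ = _ := by rw [Finset.sum_ite_mem, Finset.univ_inter, Finset.sum_const, nsmul_eq_mul]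
  let D := Finset.univ.filter fun w : G => w * u = u * w ∧ w ≠ 1 ∧ w ≠ u
  have hC : (Finset.univ.filter fun w : G => w * u = u * w).card = 4 := by
    rw [← hn, Nat.card_eq_fintype_card, Fintype.card_subtype]
    congr 1
    ext w
    simp [Subgroup.mem_centralizer_singleton_iff, eq_comm]
  have hD : D.card = 2 := by
    have e : D = ((Finset.univ.filter fun w : G => w * u = u * w).erase 1).erase u := by
      ext w; simp [D]; tauto
    rw [e, Finset.card_erase_of_mem (by simp [H.ne_one]), Finset.card_erase_of_mem (by simp), hC]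
  have hsq : ∀ w : G, IsConj w u → w * w = 1 := fun w hw => by
    obtain ⟨c, hc⟩ := isConj_iff.1 hw.symm
    rw [← hc, show c * u * c⁻¹ * (c * u * c⁻¹) = c * (u * u) * c⁻¹ by group, h2, mul_one,
      mul_inv_cancel]
  have himg : T.image (fun t => t * u * t⁻¹) ⊆ D := by
    intro w hw
    obtain ⟨t, ht, rfl⟩ := Finset.mem_image.1 hw
    have ht' := (Finset.mem_filter.1 ht).2
    set w := t * u * t⁻¹
    have hwu : IsConj w u := (isConj_iff.2 ⟨t, rfl⟩ : IsConj u w).symm
    refine Finset.mem_filter.2 ⟨Finset.mem_univ _, ?_, fun h => H.ne_one ?_, fun h => H.ne_one ?_⟩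
    · have a := hsq _ ht'
      calc w * u = (u * u) * (w * u) * (w * w) := by rw [h2, hsq w hwu, one_mul, mul_one]
        _ = u * (u * w * (u * w)) * w := by group
        _ = u * w := by rw [a, mul_one]
    · rw [h] at hwu
      exact (isConj_one_right.1 hwu)
    · rw [h, h2] at ht'
      exact (isConj_one_right.1 ht')
  have hfib : ∀ w ∈ T.image (fun t => t * u * t⁻¹),
      (T.filter fun t => t * u * t⁻¹ = w).card ≤ 4 := fun w hw => by
    obtain ⟨t0, -, h0⟩ := Finset.mem_image.1 hw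
    rw [← hC]
    refine Finset.card_le_card_of_injOn (fun t => t0⁻¹ * t) (fun t ht => ?_)
      (fun a _ b _ h => mul_left_cancel h)
    have e : t * u * t⁻¹ = t0 * u * t0⁻¹ := ((Finset.mem_filter.1 ht).2).trans h0.symm
    simp only [Finset.coe_filter, Finset.mem_univ, true_and, Set.mem_setOf_eq]
    calc t0⁻¹ * t * u = t0⁻¹ * (t * u * t⁻¹) * t := by group
      _ = u * (t0⁻¹ * t) := by rw [e]; group
  have hT8 : T.card ≤ 8 := by
    refine (Finset.card_le_mul_card_image T 4 hfib).trans ?_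
    calc 4 * (T.image fun t => t * u * t⁻¹).card ≤ 4 * D.card :=
          Nat.mul_le_mul_left 4 (Finset.card_le_card himg)
      _ = 8 := by rw [hD]
  have hN : 2 * Nat.card G = 15 * T.card := by
    have : ((2 * Nat.card G : ℕ) : ℂ) = ((15 * T.card : ℕ) : ℂ) := by
      push_cast; linear_combination (15 / 4 : ℂ) * hcount
    exact_mod_cast this
  have h4 : 4 ∣ Nat.card G := hn ▸ Subgroup.card_subgroup_dvd_card _
  have hpos := Nat.card_pos (α := G)
  have hT : T.card = 8 := by omega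
  have himgeq : T.image (fun t => t * u * t⁻¹) = D := by
    refine Finset.eq_of_subset_of_card_le himg ?_
    have := Finset.card_le_mul_card_image T 4 hfib
    omega
  refine ⟨by omega, H.simple_faithful hχ hf, fun w a b c => ?_, ?_⟩
  · have hw : w ∈ D := Finset.mem_filter.2 ⟨Finset.mem_univ _, a, b, c⟩
    rw [← himgeq] at hw
    obtain ⟨t, -, rfl⟩ := Finset.mem_image.1 hw
    exact (isConj_iff.2 ⟨t, rfl⟩ : IsConj u _).symm
  · obtain ⟨w, hw⟩ := Finset.card_pos.1 (show 0 < D.card by omega)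
    exact ⟨w, (Finset.mem_filter.1 hw).2⟩

/-- The kernel of a live character of degree three. -/
theorem exists_kernel : ∃ (M : Subgroup G) (_ : M.Normal),
    u ∉ M ∧ Nat.card (Subgroup.centralizer ({u} : Set G)) = 4 ∧
    Nat.card (G ⧸ M) = 60 ∧ IsSimpleGroup (G ⧸ M) ∧ (u : G ⧸ M) * (u : G ⧸ M) = 1 ∧
    (∀ g : G, IsConj (g : G ⧸ M) (u : G ⧸ M) → IsConj g u) ∧
    (∀ w : G ⧸ M, w * u = u * w → w ≠ 1 → w ≠ u → IsConj w u) ∧
    ∃ w : G ⧸ M, w * u = u * w ∧ w ≠ 1 ∧ w ≠ u := by
  classical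
  obtain ⟨χ, hχ⟩ := Finset.card_pos.1 (lt_of_lt_of_le two_pos H.two_le_card3)
  obtain ⟨M, hMn, hM⟩ := exists_charKernel (irr_isCharacter χ.2)
  haveI := hMn
  haveI := Fintype.ofFinite (G ⧸ M)
  have huM : u ∉ M := fun h => by
    have h1 := (hM u).1 h
    rw [H.apply3 hχ, one3 hχ] at h1
    norm_num at h1
  have HQ := H.quot M huM
  obtain ⟨χ', hχ'⟩ := exists_infl (fun n hn => (hM n).1 hn)
  have hχ3 : χ' ∈ live3 (u : G ⧸ M) := infl_mem_live3.1 (by rw [hχ']; exact hχ)
  have hf : ∀ q, (χ' : G ⧸ M → ℂ) q = (χ' : G ⧸ M → ℂ) 1 → q = 1 := fun q hq => by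
    obtain ⟨g, rfl⟩ := QuotientGroup.mk_surjective q
    refine (QuotientGroup.eq_one_iff g).2 ((hM g).2 ?_)
    rw [← hχ', infl_apply, infl_apply, QuotientGroup.mk_one, hq]
  have hn' := HQ.card_centralizer_faithful hχ3 hf
  have hall : ∀ ψ ∈ live3 u, ∃ φ, φ ∈ live3 (u : G ⧸ M) ∧ infl M φ = ψ := fun ψ hψ => by
    obtain ⟨φ, hφ⟩ := exists_infl (χ := ψ) (N := M) fun n hn => H.ker_eq hχ hψ ((hM n).1 hn)
    exact ⟨φ, infl_mem_live3.1 (hφ ▸ hψ), hφ⟩
  have hc3 : (live3 u).card = 2 := by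
    rw [← (HQ.shape hn').1]
    symm
    refine Finset.card_bij (fun φ _ => infl M φ) (fun φ hφ => infl_mem_live3.2 hφ)
      (fun a _ b _ h => infl_injective h) fun ψ hψ => ?_
    obtain ⟨φ, a, b⟩ := hall ψ hψ
    exact ⟨φ, a, b⟩
  have hn := H.card_of_two hc3
  obtain ⟨h2, h60, hs, hD, hex⟩ := HQ.faithful_structure hχ3 hf
  refine ⟨M, hMn, huM, hn, h60, hs, h2, fun g hg => ?_, hD, hex⟩
  have hval : ∀ ψ ∈ live3 u, (ψ : G → ℂ) g = (ψ : G → ℂ) u := fun ψ hψ => by
    obtain ⟨φ, -, rfl⟩ := hall ψ hψ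
    rw [infl_apply, infl_apply]
    obtain ⟨c, hc⟩ := isConj_iff.1 hg
    rw [← hc, isClassFunction_character (irr_isCharacter φ.2)]
  obtain ⟨-, e, he, -⟩ := H.shape hn
  obtain ⟨m, e', hm, he', -, h1, hx, hme, hz⟩ := H.sq_data hχ
  have hee : e' = e := Finset.mem_singleton.1 (he ▸ he')
  have hlive : ∀ φ ∈ live u, (φ : G → ℂ) g = (φ : G → ℂ) u := fun φ hφ => by
    by_cases h3 : dg φ = 3
    · exact hval φ (mem_live3.2 ⟨hφ, h3⟩)
    have : φ = e' := hee.symm ▸ Finset.mem_singleton.1 (he ▸ mem_live5.2 ⟨hφ, h3⟩)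
    subst this
    have a := sq_apply hχ hm he' h1 hx hme hz g
    have b := sq_apply hχ hm he' h1 hx hme hz u
    rw [hval χ hχ, b] at a
    linear_combination -a
  have a := H.column g
  have b := H.column u
  rw [Finset.sum_congr rfl (fun φ hφ => by rw [hlive φ hφ]), b, if_pos (IsConj.refl u), hn] at a
  by_contra hgu
  rw [if_neg hgu] at a
  norm_num at a

end Hyp

end Cfsg.Agent.Solv.ConstFour
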