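import Cfsg.Agent.Lib.Solv.ConstFour.Core
import Cfsg.Agent.Lib.Char.RealClass

/-!
The live characters of degree three are real and share their kernel.
-/

open scoped ComplexConjugate
open Cfsg Cfsg.Agent.Char

set_option autoImplicit false
set_option linter.style.haveILetI false

namespace Cfsg.Agent.Solv.ConstFour

universe u
variable {G : Type u} [Group G] [Fintype G]

open scoped Classical in
/-- The live characters of degree three. -/
noncomputable def live3 (u : G) : Finset (IrrCharacter G) := (live u).filter fun χ => dg χ = 3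

open scoped Classical in
/-- The other live characters. -/
noncomputable def live5 (u : G) : Finset (IrrCharacter G) := (live u).filter fun χ => ¬dg χ = 3

theorem mem_live3 {u : G} {χ : IrrCharacter G} : χ ∈ live3 u ↔ χ ∈ live u ∧ dg χ = 3 := by
  classical
  simp [live3]

theorem mem_live5 {u : G} {χ : IrrCharacter G} : χ ∈ live5 u ↔ χ ∈ live u ∧ dg χ ≠ 3 := by
  classical
  simp [live5]

theorem one3 {u : G} {χ : IrrCharacter G} (h : χ ∈ live3 u) : (χ : G → ℂ) 1 = 3 := by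
  rw [apply_one, (mem_live3.1 h).2]; norm_num

theorem ne_oneC3 {u : G} {χ : IrrCharacter G} (h : χ ∈ live3 u) : χ ≠ oneC :=
  (mem_live.1 (mem_live3.1 h).1).1

theorem dg_irrConj (χ : IrrCharacter G) : dg (irrConj χ) = dg χ := by
  have h := apply_one (irrConj χ)
  rw [irrConj_apply, conj_char_one (irr_isCharacter χ.2), apply_one] at h
  exact_mod_cast h.symm

namespace Hyp

variable {u : G} (H : Hyp u)
include H

theorem apply3 {χ : IrrCharacter G} (h : χ ∈ live3 u) : (χ : G → ℂ) u = -1 := by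
  rw [H.apply_live (mem_live3.1 h).1, (mem_live3.1 h).2]; norm_num

theorem five_le {χ : IrrCharacter G} (h : χ ∈ live5 u) : 5 ≤ dg χ := by
  have h1 := mem_live5.1 h
  have := H.three_le h1.1
  have := H.ne_four h1.1
  omega

theorem five_le_term {χ : IrrCharacter G} (h : χ ∈ live5 u) : 5 ≤ dg χ * (dg χ - 4) := by
  nlinarith [H.five_le h]

theorem sum5 : ∑ χ ∈ live5 u, dg χ * (dg χ - 4) = 3 * ((live3 u).card : ℤ) - 1 := by
  classical
  have h := H.E1
  rw [← Finset.sum_filter_add_sum_filter_not (live u) (fun χ => dg χ = 3)] at h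
  have h3 : ∑ χ ∈ live3 u, dg χ * (dg χ - 4) = -3 * ((live3 u).card : ℤ) := by
    rw [Finset.sum_congr rfl (g := fun _ => (-3 : ℤ))
      (fun χ hχ => by rw [(mem_live3.1 hχ).2]; norm_num), Finset.sum_const, nsmul_eq_mul, mul_comm]
  simp only [live3, live5] at h3 ⊢
  omega

theorem two_le_card3 : 2 ≤ (live3 u).card := by
  have h := H.sum5
  by_contra hc
  rcases (live5 u).eq_empty_or_nonempty with h0 | ⟨χ, hχ⟩
  · rw [h0, Finset.sum_empty] at h; omega
  · have h1 := Finset.single_le_sum (f := fun χ => dg χ * (dg χ - 4))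
      (fun ψ hψ => le_trans (by norm_num) (H.five_le_term hψ)) hχ
    have := H.five_le_term hχ
    omega

theorem irrConj_mem3 {χ : IrrCharacter G} (h : χ ∈ live3 u) : irrConj χ ∈ live3 u := by
  refine mem_live3.2 ⟨mem_live.2 ⟨fun e => ?_, ?_⟩, by rw [dg_irrConj, (mem_live3.1 h).2]⟩
  · have := dg_irrConj χ
    rw [e, dg_one, (mem_live3.1 h).2] at this
    omega
  · rw [irrConj_apply, H.apply3 h]; simp

open scoped Classical in
/-- A product of two live characters of degree three. -/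
theorem pair {χ ψ : IrrCharacter G} (hχ : χ ∈ live3 u) (hψ : ψ ∈ live3 u) :
    ∃ m : IrrCharacter G → ℕ,
      (fun g => (χ : G → ℂ) g * (ψ : G → ℂ) g) = ∑ φ, m φ • (φ : G → ℂ) ∧
      m oneC = (if χ = irrConj ψ then 1 else 0) ∧
      (m oneC : ℤ) + ∑ φ ∈ Finset.univ.erase oneC, (m φ : ℤ) * dg φ = 9 ∧
      (m oneC : ℤ) + ∑ φ ∈ live u, (m φ : ℤ) * (dg φ - 4) = 1 := by
  obtain ⟨m, hm⟩ := exists_decomposition (χ := fun g => (χ : G → ℂ) g * (ψ : G → ℂ) g)
    (isCharacter_mul (irr_isCharacter χ.2) (irr_isCharacter ψ.2))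
  refine ⟨m, hm, ?_, H.decomp_eqs m hm (by simp only [one3 hχ, one3 hψ]; norm_num)
    (by simp only [H.apply3 hχ, H.apply3 hψ]; norm_num)⟩
  have h := decomposition_coeff m hm oneC
  have h' : classInner (fun g => (χ : G → ℂ) g * (ψ : G → ℂ) g) ((oneC : IrrCharacter G) : G → ℂ) =
      classInner (χ : G → ℂ) (irrConj ψ : G → ℂ) := by
    simp [classInner]
  rw [h', irrC_orth] at h
  split_ifs at h ⊢ with he
  · exact_mod_cast h.symm
  · exact_mod_cast h.symm

theorem not_nonreal {χ : IrrCharacter G} (hχ : χ ∈ live3 u) (hne : irrConj χ ≠ χ) : False := by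
  classical
  have hχ' := H.irrConj_mem3 hχ
  -- the square
  obtain ⟨m, hm, h1, e1, e2⟩ := H.pair hχ hχ
  rw [if_neg (Ne.symm hne)] at h1
  obtain ⟨c, hc, hmc, -, hc6, -, -⟩ := H.prod_case m h1 e1 e2
  have hmv : m (irrConj χ) ≠ 0 := fun h => by
    have := conj_in_square (irr_isCharacter χ.2) (one3 hχ) H.perfect
    exact this (by
      have h2 := decomposition_coeff m hm (irrConj χ)
      rw [h, Nat.cast_zero] at h2
      exact h2)
  have hd6 : dg c = 6 := hc6 _ (mem_live3.1 hχ').1 hmv (mem_live3.1 hχ').2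
  have hvc : irrConj χ ≠ c := fun e => by
    have := (mem_live3.1 hχ').2
    rw [e] at this; omega
  have hcmem : c ∈ Finset.univ.erase (oneC : IrrCharacter G) :=
    Finset.mem_erase.2 ⟨(mem_live.1 hc).1, Finset.mem_univ _⟩
  have hvmem : irrConj χ ∈ (Finset.univ.erase (oneC : IrrCharacter G)).erase c :=
    Finset.mem_erase.2 ⟨hvc, Finset.mem_erase.2 ⟨ne_oneC3 hχ', Finset.mem_univ _⟩⟩
  rw [h1, Nat.cast_zero, zero_add, ← Finset.add_sum_erase _ _ hcmem,
    ← Finset.add_sum_erase _ _ hvmem, hd6, (mem_live3.1 hχ').2] at e1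
  set R := ((Finset.univ.erase (oneC : IrrCharacter G)).erase c).erase (irrConj χ) with hR
  have hnn : 0 ≤ ∑ φ ∈ R, (m φ : ℤ) * dg φ :=
    Finset.sum_nonneg fun φ _ => by have := dg_pos φ; positivity
  have hc1 : m c = 1 := by omega
  have hv1 : m (irrConj χ) = 1 := by omega
  have hz : ∀ φ ∈ R, m φ = 0 := fun φ hφ => by
    have h0 : ∑ φ ∈ R, (m φ : ℤ) * dg φ = 0 := by omega
    have h2 := (Finset.sum_eq_zero_iff_of_nonneg fun φ _ => by
      have := dg_pos φ; positivity).1 h0 φ hφ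
    rcases mul_eq_zero.1 h2 with h3 | h3
    · exact_mod_cast h3
    · have := dg_pos φ; omega
  have hnorm : ∑ φ, m φ * m φ = 2 := by
    rw [← Finset.add_sum_erase _ _ (Finset.mem_univ (oneC : IrrCharacter G)), h1,
      ← Finset.add_sum_erase _ _ hcmem, ← Finset.add_sum_erase _ _ hvmem, hc1, hv1,
      Finset.sum_eq_zero (s := R) fun φ hφ => by rw [hz φ hφ, mul_zero]]
    norm_num
  -- the norm square
  obtain ⟨m0, hm0, g1, f1, -⟩ := H.pair hχ hχ'
  rw [if_pos (irrConj_irrConj χ).symm] at g1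
  have hnorm0 : ∑ φ, m0 φ * m0 φ = 2 := by
    have h2 : classInner (fun g => (χ : G → ℂ) g * (χ : G → ℂ) g)
          (fun g => (χ : G → ℂ) g * (χ : G → ℂ) g) =
        classInner (fun g => (χ : G → ℂ) g * (irrConj χ : G → ℂ) g)
          (fun g => (χ : G → ℂ) g * (irrConj χ : G → ℂ) g) := by
      simp only [classInner, irrConj_apply, map_mul, Complex.conj_conj]
      congr 1
      exact Finset.sum_congr rfl fun g _ => by ring
    rw [inner_decomp m m hm hm, inner_decomp m0 m0 hm0 hm0, Nat.cast_inj, hnorm] at h2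
    exact h2.symm
  rw [← Finset.add_sum_erase _ _ (Finset.mem_univ (oneC : IrrCharacter G)), g1] at hnorm0
  obtain ⟨A, hA, hA0⟩ : ∃ A ∈ Finset.univ.erase (oneC : IrrCharacter G), m0 A ≠ 0 := by
    by_contra hno
    push Not at hno
    rw [Finset.sum_eq_zero fun φ hφ => by rw [hno φ hφ, mul_zero]] at hnorm0
    omega
  rw [← Finset.add_sum_erase _ _ hA] at hnorm0
  have hA1 : m0 A = 1 := by
    rcases Nat.lt_or_ge (m0 A) 2 with h | h
    · omega
    · have := Nat.mul_le_mul h h; omega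
  rw [hA1] at hnorm0
  have hz0 : ∀ φ, φ ≠ oneC → φ ≠ A → m0 φ = 0 := fun φ h2 h3 => by
    have h4 : ∑ φ ∈ (Finset.univ.erase (oneC : IrrCharacter G)).erase A, m0 φ * m0 φ = 0 := by omega
    exact mul_self_eq_zero.1 ((Finset.sum_eq_zero_iff.1 h4) φ
      (Finset.mem_erase.2 ⟨h3, Finset.mem_erase.2 ⟨h2, Finset.mem_univ _⟩⟩))
  have hA8 : dg A = 8 := by
    rw [g1, ← Finset.add_sum_erase _ _ hA, hA1, Finset.sum_eq_zero fun φ hφ => by
      rw [hz0 φ (Finset.ne_of_mem_erase (Finset.mem_of_mem_erase hφ)) (Finset.ne_of_mem_erase hφ)]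
      simp] at f1
    push_cast at f1
    linarith
  -- choice of a big constituent
  have key : ∀ ψ, ψ ∈ (live3 u).erase χ → ∃ m' : IrrCharacter G → ℕ, ∃ d ∈ live5 u,
      (fun g => (χ : G → ℂ) g * (irrConj ψ : G → ℂ) g) = ∑ φ, m' φ • (φ : G → ℂ) ∧ m' d ≠ 0 ∧
      (ψ = irrConj χ → dg d = 6) := fun ψ hψ => by
    obtain ⟨m', hm', i1, j1, j2⟩ := H.pair hχ (H.irrConj_mem3 (Finset.mem_of_mem_erase hψ))
    rw [irrConj_irrConj, if_neg (Ne.symm (Finset.ne_of_mem_erase hψ))] at i1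
    obtain ⟨d, hd, hmd, hd56, hd6', -, -⟩ := H.prod_case m' i1 j1 j2
    refine ⟨m', d, mem_live5.2 ⟨hd, by omega⟩, hm', hmd, fun e => ?_⟩
    subst e
    refine hd6' _ (mem_live3.1 hχ').1 ?_ (mem_live3.1 hχ').2
    have : m' (irrConj χ) = m (irrConj χ) := by
      have a1 := decomposition_coeff m' hm' (irrConj χ)
      have a2 := decomposition_coeff m hm (irrConj χ)
      rw [irrConj_irrConj, a2] at a1
      exact_mod_cast a1.symm
    omega
  choose! M D hD hM hMD hD6 using key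
  have hinj : Set.InjOn D ((live3 u).erase χ : Finset (IrrCharacter G)) := by
    intro a ha b hb hab
    by_contra hne'
    rw [Finset.mem_coe] at ha hb
    obtain ⟨n, hn, i1, j1, j2⟩ := H.pair (Finset.mem_of_mem_erase ha)
      (H.irrConj_mem3 (Finset.mem_of_mem_erase hb))
    rw [irrConj_irrConj, if_neg hne'] at i1
    obtain ⟨-, -, -, -, -, hle, -⟩ := H.prod_case n i1 j1 j2
    have h2 : classInner (fun g => (χ : G → ℂ) g * (irrConj a : G → ℂ) g)
          (fun g => (χ : G → ℂ) g * (irrConj b : G → ℂ) g) =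
        classInner (fun g => (χ : G → ℂ) g * (irrConj χ : G → ℂ) g)
          (fun g => (a : G → ℂ) g * (irrConj b : G → ℂ) g) := by
      simp only [classInner, irrConj_apply, map_mul, Complex.conj_conj]
      congr 1
      exact Finset.sum_congr rfl fun g _ => by ring
    rw [inner_decomp _ _ (hM a ha) (hM b hb), inner_decomp m0 n hm0 hn, Nat.cast_inj] at h2
    have h3 : ∑ φ, m0 φ * n φ = 0 := Finset.sum_eq_zero fun φ _ => by
      by_cases e : φ = oneC
      · rw [e, i1, mul_zero]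
      by_cases e' : φ = A
      · rw [e']
        by_contra hh
        have := hle A (right_ne_zero_of_mul hh)
        omega
      · rw [hz0 φ e e', zero_mul]
    rw [h3, Finset.sum_eq_zero_iff] at h2
    have h4 := h2 (D a) (Finset.mem_univ _)
    rcases mul_eq_zero.1 h4 with h5 | h5
    · exact hMD a ha h5
    · exact hMD b hb (hab ▸ h5)
  have hT : irrConj χ ∈ (live3 u).erase χ := Finset.mem_erase.2 ⟨hne, hχ'⟩
  have hs := H.sum5
  have hsub : ((live3 u).erase χ).image D ⊆ live5 u := fun x hx => by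
    obtain ⟨a, ha, rfl⟩ := Finset.mem_image.1 hx
    exact hD a ha
  have h5 : ∑ ψ ∈ (live3 u).erase χ, dg (D ψ) * (dg (D ψ) - 4) ≤
      ∑ φ ∈ live5 u, dg φ * (dg φ - 4) := by
    rw [← Finset.sum_image (f := fun φ => dg φ * (dg φ - 4)) hinj]
    exact Finset.sum_le_sum_of_subset_of_nonneg hsub
      fun φ hφ _ => le_trans (by norm_num) (H.five_le_term hφ)
  rw [← Finset.add_sum_erase _ _ hT, hD6 _ hT rfl] at h5
  have h6 := Finset.card_nsmul_le_sum (((live3 u).erase χ).erase (irrConj χ))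
    (fun ψ => dg (D ψ) * (dg (D ψ) - 4)) 5
    fun ψ hψ => H.five_le_term (hD ψ (Finset.mem_of_mem_erase hψ))
  rw [Finset.card_erase_of_mem hT, Finset.card_erase_of_mem hχ, nsmul_eq_mul] at h6
  have := H.two_le_card3
  push_cast [Nat.cast_sub (show 1 ≤ (live3 u).card - 1 by omega),
    Nat.cast_sub (show 1 ≤ (live3 u).card by omega)] at h6
  omega

theorem real3 {χ : IrrCharacter G} (hχ : χ ∈ live3 u) : irrConj χ = χ :=
  by_contra fun h => H.not_nonreal hχ h

theorem real3_apply {χ : IrrCharacter G} (hχ : χ ∈ live3 u) (g : G) :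
    conj ((χ : G → ℂ) g) = (χ : G → ℂ) g := by
  rw [← irrConj_apply, H.real3 hχ]

/-- Decomposition of the square. -/
theorem sq_data {χ : IrrCharacter G} (hχ : χ ∈ live3 u) :
    ∃ (m : IrrCharacter G → ℕ) (e : IrrCharacter G),
      (fun g => (χ : G → ℂ) g * (χ : G → ℂ) g) = ∑ φ, m φ • (φ : G → ℂ) ∧
      e ∈ live5 u ∧ dg e = 5 ∧ m oneC = 1 ∧ m χ = 1 ∧ m e = 1 ∧
      ∀ φ, φ ≠ oneC → φ ≠ χ → φ ≠ e → m φ = 0 := by
  classical
  obtain ⟨m, hm, h1, e1, e2⟩ := H.pair hχ hχ
  rw [if_pos (H.real3 hχ).symm] at h1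
  have hmv : m χ ≠ 0 := fun h => by
    refine conj_in_square (irr_isCharacter χ.2) (one3 hχ) H.perfect ?_
    rw [show (fun g => conj ((χ : G → ℂ) g)) = (χ : G → ℂ) from funext (H.real3_apply hχ),
      decomposition_coeff m hm χ, h, Nat.cast_zero]
  obtain ⟨e, he, hd, hmx, hme, hz⟩ :=
    H.square_case m h1 e1 e2 (mem_live3.1 hχ).1 hmv (mem_live3.1 hχ).2
  exact ⟨m, e, hm, mem_live5.2 ⟨he, by omega⟩, hd, h1, hmx, hme, hz⟩

omit H in
theorem sq_apply {χ e : IrrCharacter G} {m : IrrCharacter G → ℕ} (hχ : χ ∈ live3 u)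
    (hm : (fun g => (χ : G → ℂ) g * (χ : G → ℂ) g) = ∑ φ, m φ • (φ : G → ℂ))
    (he : e ∈ live5 u) (h1 : m oneC = 1) (hx : m χ = 1) (hme : m e = 1)
    (hz : ∀ φ, φ ≠ oneC → φ ≠ χ → φ ≠ e → m φ = 0) (g : G) :
    (χ : G → ℂ) g * (χ : G → ℂ) g = 1 + (χ : G → ℂ) g + (e : G → ℂ) g := by
  classical
  have h2 : χ ≠ e := fun h => (mem_live5.1 he).2 (h ▸ (mem_live3.1 hχ).2)
  have h3 : e ≠ oneC := (mem_live.1 (mem_live5.1 he).1).1
  have h := one_eq m hm g
  rw [h, ← Finset.sum_subset (s₁ := ({oneC, χ, e} : Finset (IrrCharacter G))) (Finset.subset_univ _)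
    (fun φ _ hφ => by
      simp only [Finset.mem_insert, Finset.mem_singleton, not_or] at hφ
      rw [hz φ hφ.1 hφ.2.1 hφ.2.2, Nat.cast_zero, zero_mul]),
    Finset.sum_insert (by simp [(ne_oneC3 hχ).symm, h3.symm]), Finset.sum_pair h2, h1, hx, hme,
    oneC_apply]
  push_cast
  ring

/-- Two live characters of degree three differ pointwise by a reflection. -/
theorem dichotomy {χ ψ : IrrCharacter G} (hχ : χ ∈ live3 u) (hψ : ψ ∈ live3 u) (g : G) :
    (χ : G → ℂ) g = (ψ : G → ℂ) g ∨ (χ : G → ℂ) g + (ψ : G → ℂ) g = 1 := by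
  classical
  by_cases hcp : χ = ψ
  · left; rw [hcp]
  obtain ⟨m, e, hm, he, hde, h1, hx, hme, hz⟩ := H.sq_data hχ
  obtain ⟨m', e', hm', he', hde', h1', hx', hme', hz'⟩ := H.sq_data hψ
  have hee : e = e' := by
    by_contra hne
    obtain ⟨n, hn, i1, j1, j2⟩ := H.pair hχ hψ
    rw [H.real3 hψ, if_neg hcp] at i1
    obtain ⟨c, -, hnc, -, -, -, c', hne', hnc'⟩ := H.prod_case n i1 j1 j2
    have h2 : classInner (fun g => (χ : G → ℂ) g * (ψ : G → ℂ) g)
          (fun g => (χ : G → ℂ) g * (ψ : G → ℂ) g) =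
        classInner (fun g => (χ : G → ℂ) g * (χ : G → ℂ) g)
          (fun g => (ψ : G → ℂ) g * (ψ : G → ℂ) g) := by
      simp only [classInner, map_mul, H.real3_apply hχ, H.real3_apply hψ]
      congr 1
      exact Finset.sum_congr rfl fun g _ => by ring
    rw [inner_decomp n n hn hn, inner_decomp m m' hm hm', Nat.cast_inj] at h2
    have hsmall : ∑ φ, m φ * m' φ = 1 := by
      rw [Finset.sum_eq_single (oneC : IrrCharacter G), h1, h1']
      · intro φ _ h0
        by_cases a1 : φ = χ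
        · rw [a1, hz' χ (ne_oneC3 hχ) hcp
            (fun h => by rw [h] at hχ; exact (mem_live5.1 he').2 (mem_live3.1 hχ).2), mul_zero]
        by_cases a2 : φ = e
        · rw [a2, hz' e (mem_live.1 (mem_live5.1 he).1).1
            (fun h => by rw [h] at he; exact (mem_live5.1 he).2 (mem_live3.1 hψ).2) hne, mul_zero]
        rw [hz φ h0 a1 a2, zero_mul]
      · exact fun h => absurd (Finset.mem_univ _) h
    have h3 : n c * n c + n c' * n c' ≤ ∑ φ, n φ * n φ := by
      rw [← Finset.sum_pair (f := fun φ => n φ * n φ) hne'.symm]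
      exact Finset.sum_le_sum_of_subset (Finset.subset_univ _)
    have := Nat.mul_pos (Nat.pos_of_ne_zero hnc) (Nat.pos_of_ne_zero hnc)
    have := Nat.mul_pos (Nat.pos_of_ne_zero hnc') (Nat.pos_of_ne_zero hnc')
    omega
  subst hee
  have a := sq_apply hχ hm he h1 hx hme hz g
  have b := sq_apply hψ hm' he' h1' hx' hme' hz' g
  have : ((χ : G → ℂ) g - (ψ : G → ℂ) g) * ((χ : G → ℂ) g + (ψ : G → ℂ) g - 1) = 0 := by
    linear_combination a - b
  rcases mul_eq_zero.1 this with h | h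
  · exact Or.inl (sub_eq_zero.1 h)
  · exact Or.inr (sub_eq_zero.1 h)

theorem sq_at {χ : IrrCharacter G} (hχ : χ ∈ live3 u) (g : G) :
    (χ : G → ℂ) (g * g) = (χ : G → ℂ) g * (χ : G → ℂ) g - 2 * (χ : G → ℂ) g := by
  have h := sq_sub_char_sq (irr_isCharacter χ.2) (one3 hχ) H.perfect g
  rw [H.real3_apply hχ] at h
  linear_combination -h

/-- All live characters of degree three share their kernel. -/
theorem ker_eq {χ ψ : IrrCharacter G} (hχ : χ ∈ live3 u) (hψ : ψ ∈ live3 u) {g : G}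
    (hg : (χ : G → ℂ) g = (χ : G → ℂ) 1) : (ψ : G → ℂ) g = (ψ : G → ℂ) 1 := by
  rw [one3 hψ]
  rw [one3 hχ] at hg
  rcases H.dichotomy hχ hψ g with h | h
  · rw [← h, hg]
  exfalso
  have hp : (ψ : G → ℂ) g = -2 := by linear_combination h - hg
  have a := H.sq_at hχ g
  have b := H.sq_at hψ g
  rw [hg] at a
  rw [hp] at b
  rcases H.dichotomy hχ hψ (g * g) with h2 | h2 <;> rw [a, b] at h2 <;> norm_num at h2

end Hyp

end Cfsg.Agent.Solv.ConstFour
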